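import Groth.Agent.EtPBC63.FlatConn

/-!
# Comparison of a section of an inverse image with sections coming from the base
-/

universe u

open CategoryTheory CategoryTheory.Limits AlgebraicGeometry Opposite

namespace Groth.Agent.EtPBC63.RedFib

open EtFound Gabber FlatConn

set_option backward.isDefEq.respectTransparency.types false

variable {Y T : Scheme.{u}} (e : Y ⟶ T) (F : EtCoh.Ab T) {Ũ : T.Etale} {W : Y.Etale}
  (a : W ⟶ (EtCoh.bc e).obj Ũ)

theorem germSupp_neg {X : Scheme.{u}} {G : EtCoh.Ab X} {U : X.Etale} (s : G.obj.obj (op U)) :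
    germSupp G U (-s) ⊆ germSupp G U s := fun q hq => by
  obtain ⟨K, _, _, ξ, z, rfl⟩ := exists_algClosed_point U q
  refine (mem_germSupp_iff s z).mpr fun h => (mem_germSupp_iff _ z).mp hq ?_
  rw [map_neg, h, neg_zero]

/-- The part of `W` over an étale `U → Ũ`. -/
noncomputable def obj {U : T.Etale} (r : U ⟶ Ũ) : Y.Etale :=
  haveI := etale_left ((EtCoh.bc e).map r)
  haveI := W.prop
  haveI : Etale (pullback.fst a.left ((EtCoh.bc e).map r).left ≫ W.hom) := inferInstance
  Scheme.Etale.mk (pullback.fst a.left ((EtCoh.bc e).map r).left ≫ W.hom)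

noncomputable def toW {U : T.Etale} (r : U ⟶ Ũ) : obj e a r ⟶ W :=
  MorphismProperty.Over.homMk (pullback.fst a.left ((EtCoh.bc e).map r).left) rfl trivial

noncomputable def toU {U : T.Etale} (r : U ⟶ Ũ) : obj e a r ⟶ (EtCoh.bc e).obj U :=
  MorphismProperty.Over.homMk (pullback.snd a.left ((EtCoh.bc e).map r).left)
    (by
      show _ = pullback.fst a.left ((EtCoh.bc e).map r).left ≫ W.hom
      rw [← MorphismProperty.Over.w a, ← Category.assoc, pullback.condition, Category.assoc,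
        MorphismProperty.Over.w ((EtCoh.bc e).map r)]
      rfl) trivial

theorem toU_map {U : T.Etale} (r : U ⟶ Ũ) : toU e a r ≫ (EtCoh.bc e).map r = toW e a r ≫ a :=
  MorphismProperty.Over.Hom.ext pullback.condition.symm

theorem fst_toU {U : T.Etale} (r : U ⟶ Ũ) (w : (obj e a r).left) :
    r.left.base ((pullback.fst U.hom e).base ((toU e a r).left.base w)) =
      (pullback.fst Ũ.hom e).base (a.left.base ((toW e a r).left.base w)) := by
  rw [← bc_fst e r]
  exact congrArg (pullback.fst Ũ.hom e).base ((Scheme.Hom.comp_apply _ _ w).symm.trans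
    ((congrArg (fun m : (obj e a r).left ⟶ ((EtCoh.bc e).obj Ũ).left => m.base w)
      (pullback.condition.symm : (toU e a r).left ≫ ((EtCoh.bc e).map r).left = (toW e a r).left ≫ a.left)).trans
      (Scheme.Hom.comp_apply _ _ w)))

/-- The difference between a section of the inverse image and one coming from `U`. -/
noncomputable def diff (τ : ((EtCoh.pull e).obj F).obj.obj (op W)) {U : T.Etale} (r : U ⟶ Ũ) (σ : F.obj.obj (op U)) :
    ((EtCoh.pull e).obj F).obj.obj (op (obj e a r)) :=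
  ((EtCoh.pull e).obj F).obj.map (toW e a r).op τ - ((EtCoh.pull e).obj F).obj.map (toU e a r).op (pb e F U σ)

theorem diff_map (τ : ((EtCoh.pull e).obj F).obj.obj (op W)) {U : T.Etale} (r : U ⟶ Ũ) (s : F.obj.obj (op Ũ)) :
    diff e F a τ r (F.obj.map r.op s) = ((EtCoh.pull e).obj F).obj.map (toW e a r).op
      (τ - ((EtCoh.pull e).obj F).obj.map a.op (pb e F Ũ s)) := by
  unfold diff
  rw [map_sub, pb_map, ← Functor.map_comp_apply, ← Functor.map_comp_apply, ← op_comp, ← op_comp, toU_map]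

variable {Ω : Type u} [Field Ω] [IsSepClosed Ω] {ζ : Spec (CommRingCat.of Ω) ⟶ Y}

theorem pt_cond {U : T.Etale} (r : U ⟶ Ũ) (z : (Scheme.pointSmallEtale ζ).fiber.obj W)
    (u' : (Scheme.pointSmallEtale (ζ ≫ e)).fiber.obj U)
    (hu : (Scheme.pointSmallEtale (ζ ≫ e)).fiber.map r u' =
      bcFiberEquiv e ζ Ũ ((Scheme.pointSmallEtale ζ).fiber.map a z)) :
    (Scheme.pointSmallEtale ζ).fiber.map a z =
      (Scheme.pointSmallEtale ζ).fiber.map ((EtCoh.bc e).map r) ((bcFiberEquiv e ζ U).symm u') := by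
  refine (bcFiberEquiv e ζ Ũ).injective (hu.symm.trans ?_)
  apply CategoryTheory.Over.OverMorphism.ext
  let v := (bcFiberEquiv e ζ U).symm u'
  have h : (v.left : Spec (CommRingCat.of Ω) ⟶ ((EtCoh.bc e).obj U).left) ≫ pullback.fst U.hom e =
      (u'.left : Spec (CommRingCat.of Ω) ⟶ U.left) :=
    congr(($(Equiv.apply_symm_apply (bcFiberEquiv e ζ U) u')).left)
  show (u'.left : Spec (CommRingCat.of Ω) ⟶ U.left) ≫ r.left =
    ((v.left : Spec (CommRingCat.of Ω) ⟶ ((EtCoh.bc e).obj U).left) ≫ ((EtCoh.bc e).map r).left) ≫ pullback.fst Ũ.hom e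
  rw [← h]
  exact (Category.assoc _ _ _).trans ((congrArg (_ ≫ ·) (pullback.lift_fst _ _ _).symm).trans (Category.assoc _ _ _).symm)

/-- The geometric point of `obj e a r` over compatible points of `W` and `U`. -/
noncomputable def pt {U : T.Etale} (r : U ⟶ Ũ) (z : (Scheme.pointSmallEtale ζ).fiber.obj W)
    (u' : (Scheme.pointSmallEtale (ζ ≫ e)).fiber.obj U)
    (hu : (Scheme.pointSmallEtale (ζ ≫ e)).fiber.map r u' =
      bcFiberEquiv e ζ Ũ ((Scheme.pointSmallEtale ζ).fiber.map a z)) :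
    (Scheme.pointSmallEtale ζ).fiber.obj (obj e a r) :=
  CategoryTheory.Over.homMk
    (pullback.lift (z.left : Spec (CommRingCat.of Ω) ⟶ W.left)
      (((bcFiberEquiv e ζ U).symm u').left : Spec (CommRingCat.of Ω) ⟶ ((EtCoh.bc e).obj U).left)
      congr(($(pt_cond e a r z u' hu)).left))
    ((Category.assoc _ _ _).symm.trans ((congrArg (· ≫ W.hom) (pullback.lift_fst _ _ _)).trans
      (CategoryTheory.Over.w z)))

theorem map_toU_pt {U : T.Etale} (r : U ⟶ Ũ) (z : (Scheme.pointSmallEtale ζ).fiber.obj W)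
    (u' : (Scheme.pointSmallEtale (ζ ≫ e)).fiber.obj U)
    (hu : (Scheme.pointSmallEtale (ζ ≫ e)).fiber.map r u' =
      bcFiberEquiv e ζ Ũ ((Scheme.pointSmallEtale ζ).fiber.map a z)) :
    (Scheme.pointSmallEtale ζ).fiber.map (toU e a r) (pt e a r z u' hu) = (bcFiberEquiv e ζ U).symm u' :=
  CategoryTheory.Over.OverMorphism.ext (pullback.lift_snd _ _ _)

theorem map_toW_pt {U : T.Etale} (r : U ⟶ Ũ) (z : (Scheme.pointSmallEtale ζ).fiber.obj W)
    (u' : (Scheme.pointSmallEtale (ζ ≫ e)).fiber.obj U)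
    (hu : (Scheme.pointSmallEtale (ζ ≫ e)).fiber.map r u' =
      bcFiberEquiv e ζ Ũ ((Scheme.pointSmallEtale ζ).fiber.map a z)) :
    (Scheme.pointSmallEtale ζ).fiber.map (toW e a r) (pt e a r z u' hu) = z :=
  CategoryTheory.Over.OverMorphism.ext (pullback.lift_fst _ _ _)

/-- Near every geometric point a section of the inverse image comes from the base. -/
theorem exists_agree (τ : ((EtCoh.pull e).obj F).obj.obj (op W)) (z : (Scheme.pointSmallEtale ζ).fiber.obj W) :
    ∃ (U : T.Etale) (r : U ⟶ Ũ) (σ : F.obj.obj (op U)) (u' : (Scheme.pointSmallEtale (ζ ≫ e)).fiber.obj U)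
      (hu : (Scheme.pointSmallEtale (ζ ≫ e)).fiber.map r u' =
        bcFiberEquiv e ζ Ũ ((Scheme.pointSmallEtale ζ).fiber.map a z)),
      ptOf (pt e a r z u' hu) ∉ germSupp ((EtCoh.pull e).obj F) (obj e a r) (diff e F a τ r σ) := by
  let Φ := Scheme.pointSmallEtale (ζ ≫ e)
  let ũ := bcFiberEquiv e ζ Ũ ((Scheme.pointSmallEtale ζ).fiber.map a z)
  obtain ⟨c, hc⟩ := ((ConcreteCategory.isIso_iff_bijective
    ((sheafFiberPullIso (A := AddCommGrpCat.{u + 1}) e ζ).inv.app F)).mp inferInstance).2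
    ((Scheme.pointSmallEtale ζ).toPresheafFiber _ z ((EtCoh.pull e).obj F).obj τ)
  obtain ⟨U₀, u₀, σ₀, rfl⟩ := Φ.toPresheafFiber_jointly_surjective c
  haveI := U₀.prop
  haveI := Ũ.prop
  haveI : Etale (pullback.fst Ũ.hom U₀.hom ≫ Ũ.hom) := inferInstance
  let U : T.Etale := Scheme.Etale.mk (pullback.fst Ũ.hom U₀.hom ≫ Ũ.hom)
  let r : U ⟶ Ũ := MorphismProperty.Over.homMk (pullback.fst Ũ.hom U₀.hom) rfl trivial
  let r₀ : U ⟶ U₀ := MorphismProperty.Over.homMk (pullback.snd Ũ.hom U₀.hom) pullback.condition.symm trivial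
  let u' : Φ.fiber.obj U := CategoryTheory.Over.homMk
    (pullback.lift (ũ.left : Spec (CommRingCat.of Ω) ⟶ Ũ.left) (u₀.left : Spec (CommRingCat.of Ω) ⟶ U₀.left)
      ((CategoryTheory.Over.w ũ).trans (CategoryTheory.Over.w u₀).symm))
    ((Category.assoc _ _ _).symm.trans ((congrArg (· ≫ Ũ.hom) (pullback.lift_fst _ _ _)).trans
      (CategoryTheory.Over.w ũ)))
  have hu : Φ.fiber.map r u' = ũ := CategoryTheory.Over.OverMorphism.ext (pullback.lift_fst _ _ _)
  have hu₀ : Φ.fiber.map r₀ u' = u₀ := CategoryTheory.Over.OverMorphism.ext (pullback.lift_snd _ _ _)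
  refine ⟨U, r, F.obj.map r₀.op σ₀, u', hu, fun hp => (mem_germSupp_iff _ (pt e a r z u' hu)).mp hp ?_⟩
  unfold diff
  rw [map_sub, (Scheme.pointSmallEtale ζ).toPresheafFiber_w_apply, (Scheme.pointSmallEtale ζ).toPresheafFiber_w_apply,
    map_toW_pt, map_toU_pt, ← germ_pb e F U, Equiv.apply_symm_apply, Φ.toPresheafFiber_w_apply r₀ u' F.obj σ₀, hu₀,
    sub_eq_zero]
  exact hc.symm

omit [Field Ω] [IsSepClosed Ω] in
/-- Agreement with a section from the base spreads along the fibres. -/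
theorem fibre_open (τ : ((EtCoh.pull e).obj F).obj.obj (op W)) (s : F.obj.obj (op Ũ)) (y : W.left)
    (hy : y ∈ germSupp ((EtCoh.pull e).obj F) W (τ - ((EtCoh.pull e).obj F).obj.map a.op (pb e F Ũ s))) :
    ∃ N : Set W.left, IsOpen N ∧ y ∈ N ∧ ∀ y' ∈ N,
      (pullback.fst Ũ.hom e).base (a.left.base y') = (pullback.fst Ũ.hom e).base (a.left.base y) →
      y' ∈ germSupp ((EtCoh.pull e).obj F) W (τ - ((EtCoh.pull e).obj F).obj.map a.op (pb e F Ũ s)) := by
  obtain ⟨K, _, _, ζ, z, rfl⟩ := exists_algClosed_point W y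
  obtain ⟨U, r, σ, u', hu, hz⟩ := exists_agree e F a τ z
  let z' := pt e a r z u' hu
  have hzW : (toW e a r).left.base (ptOf z') = ptOf z :=
    (ptOf_map (toW e a r) z').symm.trans (congrArg ptOf (map_toW_pt e a r z u' hu))
  let p := fun w : (obj e a r).left => (pullback.fst U.hom e).base ((toU e a r).left.base w)
  haveI := etale_left r
  obtain ⟨O, hO, hzO, hiso⟩ : ∃ O : Set U.left, IsOpen O ∧ p (ptOf z') ∈ O ∧
      ∀ v ∈ O, r.left.base v = r.left.base (p (ptOf z')) → v = p (ptOf z') := by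
    have hdisc : DiscreteTopology ↥(r.left.base ⁻¹' {r.left.base (p (ptOf z'))}) := by
      haveI : LocallyQuasiFinite r.left := AlgSpLib.locallyQuasiFinite_of_formallyUnramified r.left
      exact (r.left.isDiscrete_preimage_singleton _).to_subtype
    obtain ⟨O, hO, hO'⟩ := isOpen_induced_iff.mp
      (isOpen_discrete ({⟨p (ptOf z'), rfl⟩} : Set ↥(r.left.base ⁻¹' {r.left.base (p (ptOf z'))})))
    refine ⟨O, hO, (Set.ext_iff.mp hO' ⟨p (ptOf z'), rfl⟩).mpr rfl, fun v hv he => ?_⟩
    exact congrArg Subtype.val ((Set.ext_iff.mp hO' ⟨v, he⟩).mp hv)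
  let M : Set (obj e a r).left := p ⁻¹' O ∩ (germSupp ((EtCoh.pull e).obj F) _ (diff e F a τ r σ))ᶜ
  have hM : IsOpen M := (hO.preimage ((pullback.fst U.hom e).continuous.comp (toU e a r).left.continuous)).inter
    (isClosed_germSupp _ _ _).isOpen_compl
  haveI := etale_left (toW e a r)
  refine ⟨_, (toW e a r).left.isOpenMap _ hM, ⟨_, ⟨hzO, hz⟩, hzW⟩, ?_⟩
  rintro _ ⟨Q, ⟨hQO, hQD⟩, rfl⟩ he
  have hQ : p Q = p (ptOf z') := hiso _ hQO (by
    show r.left.base ((pullback.fst U.hom e).base _) = r.left.base ((pullback.fst U.hom e).base _)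
    rw [fst_toU, fst_toU, hzW]
    exact he)
  -- the difference of the two sections from the base
  have key : ∀ w, w ∉ germSupp _ _ (diff e F a τ r σ) →
      (w ∈ germSupp _ _ (diff e F a τ r (F.obj.map r.op s)) ↔ p w ∈ germSupp F U (σ - F.obj.map r.op s)) := by
    intro w hw
    have e1 : w ∈ germSupp ((EtCoh.pull e).obj F) (obj e a r) (diff e F a τ r (F.obj.map r.op s) - diff e F a τ r σ) ↔
        p w ∈ germSupp F U (σ - F.obj.map r.op s) := by
      have e2 : diff e F a τ r (F.obj.map r.op s) - diff e F a τ r σ =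
          ((EtCoh.pull e).obj F).obj.map (toU e a r).op (pb e F U (σ - F.obj.map r.op s)) := by
        unfold diff
        rw [pb_sub, map_sub]
        abel
      rw [e2, germSupp_map, germSupp_pb]
    rw [← e1]
    constructor
    · intro h
      rcases germSupp_sub_subset (diff e F a τ r (F.obj.map r.op s)) (diff e F a τ r σ) 0 (by rwa [sub_zero]) with h1 | h1
      · exact h1
      · rw [sub_zero] at h1; exact absurd h1 hw
    · intro h
      rcases germSupp_sub_subset (diff e F a τ r (F.obj.map r.op s)) 0 (diff e F a τ r σ) h with h1 | h1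
      · rwa [sub_zero] at h1
      · rw [zero_sub] at h1; exact absurd (germSupp_neg _ h1) hw
  have h1 : ptOf z' ∈ germSupp _ _ (diff e F a τ r (F.obj.map r.op s)) := by
    rw [diff_map, germSupp_map, hzW]
    exact hy
  have h2 := (key Q hQD).mpr (hQ ▸ (key _ hz).mp h1)
  rwa [diff_map, germSupp_map] at h2

end Groth.Agent.EtPBC63.RedFib
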