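import Groth.Agent.EtPBC63.RedFib.SCGen
import Groth.Agent.EtPBC63.RedFib.SmoothPt
import Groth.Agent.SmoothSecLib.Basic
import Groth.Agent.AlgGrpH24.GeomRedPts
import Groth.Agent.S2155

/-!
# Étale neighbourhoods in which a given geometric point meets a section component
-/

set_option autoImplicit false

universe u

open CategoryTheory CategoryTheory.Limits AlgebraicGeometry TensorProduct

namespace Groth.Agent.EtPBC63.RedFib

set_option backward.isDefEq.respectTransparency.types false

/-- In a noetherian space every point lies on an irreducible component containing a nonempty open. -/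
theorem exists_open_subset_component {α : Type*} [TopologicalSpace α] [TopologicalSpace.NoetherianSpace α] (x : α) :
    ∃ (Z O : Set α), x ∈ Z ∧ IsPreconnected Z ∧ IsOpen O ∧ O.Nonempty ∧ O ⊆ Z := by
  let Z := irreducibleComponent x
  let E : Set (Set α) := {W ∈ irreducibleComponents α | W ≠ Z}
  have hfin : E.Finite := TopologicalSpace.NoetherianSpace.finite_irreducibleComponents.subset fun _ h => h.1
  have hcl : IsClosed (⋃₀ E) := (Set.sUnion_eq_biUnion ▸ hfin.isClosed_biUnion fun W hW => isClosed_of_mem_irreducibleComponents W hW.1)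
  refine ⟨Z, (⋃₀ E)ᶜ, mem_irreducibleComponent,
    isIrreducible_irreducibleComponent.isConnected.isPreconnected, hcl.isOpen_compl, ?_, fun y hy => ?_⟩
  · by_contra hne
    rw [Set.not_nonempty_iff_eq_empty, Set.compl_empty_iff] at hne
    obtain ⟨W, hW, hZW⟩ := isIrreducible_iff_sUnion_isClosed.1
      (isIrreducible_irreducibleComponent (x := x)) hfin.toFinset
      (fun W hW => isClosed_of_mem_irreducibleComponents W (hfin.mem_toFinset.1 hW).1)
      (by rw [Set.Finite.coe_toFinset, hne]; exact Set.subset_univ _)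
    have hW' := hfin.mem_toFinset.1 hW
    exact hW'.2 (le_antisymm
      ((irreducibleComponent_mem_irreducibleComponents x).2 hW'.1.1 hZW) hZW)
  · by_contra hyZ
    exact hy ⟨irreducibleComponent y, ⟨irreducibleComponent_mem_irreducibleComponents y,
      fun h => hyZ (h ▸ mem_irreducibleComponent)⟩, mem_irreducibleComponent⟩

theorem exists_good_nbhd {R A : Type u} [CommRing R] [CommRing A] [Algebra R A] [Algebra.FinitePresentation R A]
    [Module.Flat R A]
    (hred : ∀ (L : Type u) [Field L] [Algebra R L], IsReduced (pullback (Spec.map (CommRingCat.ofHom (algebraMap R A)))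
      (Spec.map (CommRingCat.ofHom (algebraMap R L)))))
    {Ω : Type u} [Field Ω] [IsSepClosed Ω] [Algebra R Ω] (ω : A →ₐ[R] Ω) :
    ∃ (R' : Type u) (_ : CommRing R') (_ : Algebra R R'), Algebra.Etale R R' ∧
      ∃ (χ : R' →ₐ[R] Ω) (α : A →ₐ[R] R'),
        (⟨RingHom.ker (Algebra.TensorProduct.lift χ ω fun _ _ => Commute.all _ _).toRingHom, RingHom.ker_isPrime _⟩ :
            PrimeSpectrum (R' ⊗[R] A)) ∈
          MoreMor.sectionComponents (Spec.map (CommRingCat.ofHom (algebraMap R' (R' ⊗[R] A))))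
            (Spec.map (CommRingCat.ofHom
              (Algebra.TensorProduct.lift (AlgHom.id R R') α fun _ _ => Commute.all _ _).toRingHom)) := by
  classical
  let p : Ideal R := RingHom.ker (algebraMap R Ω)
  haveI : p.IsPrime := RingHom.ker_isPrime _
  let k := p.ResidueField
  letI : Algebra k Ω := (Ideal.ResidueField.lift p (algebraMap R Ω) le_rfl
    (fun r hr => IsUnit.mk0 _ fun h => hr h)).toAlgebra
  haveI : IsScalarTower R k Ω := IsScalarTower.of_algebraMap_eq fun r =>
    (Ideal.ResidueField.lift_algebraMap _ _ _ _ r).symm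
  let K := separableClosure k Ω
  haveI : IsSepClosed K := (separableClosure.isSepClosure k Ω).sep_closed
  let val : K →ₐ[R] Ω := K.val.restrictScalars R
  let φK := CommRingCat.ofHom (algebraMap R A)
  let fK := Spec.map (CommRingCat.ofHom (algebraMap K (K ⊗[R] A)))
  haveI : LocallyOfFiniteType fK :=
    (HasRingHomProperty.Spec_iff (P := @LocallyOfFiniteType)).2 (RingHom.finiteType_algebraMap.2 inferInstance)
  have hsq : IsPullback (Spec.map (CommRingCat.ofHom
      (Algebra.TensorProduct.includeRight : A →ₐ[R] K ⊗[R] A).toRingHom)) fK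
      (Spec.map (CommRingCat.ofHom (algebraMap R A))) (Spec.map (CommRingCat.ofHom (algebraMap R K))) :=
    GeomRedFlat5.isPullback_tensor R K A
  haveI : GeometricallyReduced fK := by
    refine ⟨geometrically_iff_of_isClosedUnderIsomorphisms.mpr fun L _ y => ?_⟩
    obtain ⟨ψ, rfl⟩ := Spec.map_surjective y
    letI : Algebra R L := (ψ.hom.comp (algebraMap R K)).toAlgebra
    have e : Spec.map (CommRingCat.ofHom (algebraMap R L)) =
        Spec.map ψ ≫ Spec.map (CommRingCat.ofHom (algebraMap R K)) := by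
      rw [← Spec.map_comp]; rfl
    haveI := hred L
    have hp := (IsPullback.of_hasPullback fK (Spec.map ψ)).paste_horiz hsq
    rw [← e] at hp
    exact isReduced_of_isOpenImmersion hp.isoPullback.hom
  haveI : IsNoetherianRing (K ⊗[R] A) := Algebra.FiniteType.isNoetherianRing K _
  let lz : K ⊗[R] A →ₐ[R] Ω := Algebra.TensorProduct.lift val ω fun _ _ => Commute.all _ _
  let z' : PrimeSpectrum (K ⊗[R] A) := ⟨RingHom.ker lz.toRingHom, RingHom.ker_isPrime _⟩
  obtain ⟨Z, O, hzZ, hZ, hO, hOne, hOZ⟩ := exists_open_subset_component z'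
  obtain ⟨V, hVO, hVne, hVs⟩ := AlgGrpH24.exists_smooth_open_le fK
    (⟨O, hO⟩ : (Spec (CommRingCat.of (K ⊗[R] A))).Opens) hOne
  obtain ⟨x, hx⟩ := hVne
  obtain ⟨k', _, _, _, _, t, ht, -⟩ := SmoothSecLib.exists_separable_point (V.ι ≫ fK) ⊤ (x := ⟨x, hx⟩) trivial
  obtain ⟨θ, hθ⟩ := Spec.map_surjective (t ≫ V.ι)
  let ek : K ≃+* k' := RingEquiv.ofBijective (algebraMap K k')
    ⟨RingHom.injective _, IsSepClosed.algebraMap_surjective K k'⟩
  let a' : K ⊗[R] A →+* K := ek.symm.toRingHom.comp θ.hom
  have hθK : ∀ c : K, θ.hom (algebraMap K (K ⊗[R] A) c) = algebraMap K k' c := by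
    have h1 : CommRingCat.ofHom (algebraMap K (K ⊗[R] A)) ≫ θ = CommRingCat.ofHom (algebraMap K k') := by
      apply Spec.map_injective
      rw [Spec.map_comp, hθ, Category.assoc]
      exact ht
    exact fun c => congr(($h1).hom c)
  have ha' : ∀ c : K, a' (algebraMap K (K ⊗[R] A) c) = c := fun c => by
    show ek.symm (θ.hom _) = c
    rw [hθK]
    exact ek.symm_apply_apply c
  let a : A →ₐ[R] K :=
    { a'.comp (Algebra.TensorProduct.includeRight : A →ₐ[R] K ⊗[R] A).toRingHom with
      commutes' := fun r => by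
        show a' ((1 : K) ⊗ₜ[R] algebraMap R A r) = algebraMap R K r
        rw [← Algebra.TensorProduct.algebraMap_apply' r, IsScalarTower.algebraMap_apply R K (K ⊗[R] A), ha'] }
  let w' : PrimeSpectrum (K ⊗[R] A) := ⟨RingHom.ker a', RingHom.ker_isPrime _⟩
  have hw'V : (w' : Spec (CommRingCat.of (K ⊗[R] A))) ∈ V := by
    let k₀ : Spec (CommRingCat.of k') := IsLocalRing.closedPoint k'
    have h1 : (t ≫ V.ι).base k₀ ∈ V := by
      rw [Scheme.Hom.comp_apply]; exact (t.base k₀).2
    rw [← hθ] at h1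
    have h2 : (Spec.map θ).base k₀ = (w' : Spec (CommRingCat.of (K ⊗[R] A))) := by
      refine PrimeSpectrum.ext ?_
      show Ideal.comap θ.hom (IsLocalRing.maximalIdeal k') = RingHom.ker (ek.symm.toRingHom.comp θ.hom)
      rw [IsLocalRing.maximalIdeal_eq_bot, ← RingHom.ker_eq_comap_bot]
      ext b
      simp [RingHom.mem_ker]
    rwa [h2] at h1
  -- a standard smooth chart around the point
  let w : PrimeSpectrum A := ⟨RingHom.ker a.toRingHom, RingHom.ker_isPrime _⟩
  let f := Spec.map (CommRingCat.ofHom (algebraMap R A))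
  haveI : LocallyOfFinitePresentation f :=
    (HasRingHomProperty.Spec_iff (P := @LocallyOfFinitePresentation)).2 (RingHom.finitePresentation_algebraMap.2 ‹_›)
  haveI : Flat f := (HasRingHomProperty.Spec_iff (P := @Flat)).2 (RingHom.flat_algebraMap_iff.2 ‹_›)
  haveI : LocallyOfFinitePresentation fK :=
    (HasRingHomProperty.Spec_iff (P := @LocallyOfFinitePresentation)).2
      (RingHom.finitePresentation_algebraMap.2 inferInstance)
  have hwf : (w : Spec (CommRingCat.of A)) ∈ f.smoothLocus := by
    have h1 : (w' : Spec (CommRingCat.of (K ⊗[R] A))) ∈ fK.smoothLocus := by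
      haveI := hVs
      have h2 : (⟨w', hw'V⟩ : (V : Scheme.{u})) ∈ (V.ι ≫ fK).smoothLocus := by
        rw [Scheme.Hom.smoothLocus_eq_top]; trivial
      rw [← Scheme.Hom.preimage_smoothLocus_eq] at h2
      exact h2
    rw [Groth.Agent.S2155.result f _ fK _ hsq (Or.inl inferInstance)] at h1
    exact h1
  obtain ⟨_, ⟨_, ⟨h, rfl⟩, rfl⟩, hwh, hh⟩ :=
    PrimeSpectrum.isBasis_basic_opens.exists_subset_of_mem_open hwf f.smoothLocus.2
  haveI : Algebra.Smooth R (Localization.Away h) := by
    let j := Spec.map (CommRingCat.ofHom (algebraMap A (Localization.Away h)))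
    haveI : IsOpenImmersion j := Scheme.isOpenImmersion_SpecMap_localizationAway h
    have hsm : Smooth (j ≫ f) := by
      rw [← Scheme.Hom.smoothLocus_eq_top_iff, ← Scheme.Hom.preimage_smoothLocus_eq, ← top_le_iff]
      intro y _
      exact hh ((PrimeSpectrum.localization_away_comap_range (Localization.Away h) h).le ⟨y, rfl⟩)
    rw [show j ≫ f = Spec.map (CommRingCat.ofHom (algebraMap R (Localization.Away h))) by
      rw [← Spec.map_comp]; rfl, HasRingHomProperty.Spec_iff (P := @Smooth)] at hsm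
    exact RingHom.smooth_algebraMap.1 hsm
  let a₁ : Localization.Away h →ₐ[R] K := IsLocalization.liftAlgHom (M := Submonoid.powers h) (f := a) fun y => by
    obtain ⟨y, n, rfl⟩ := y
    exact IsUnit.mk0 _ (by rw [map_pow]; exact pow_ne_zero _ hwh)
  obtain ⟨s, hs, hstd⟩ := Algebra.Smooth.exists_span_eq_top_isStandardSmooth R (Localization.Away h)
  obtain ⟨b, hb, hb0⟩ : ∃ b ∈ s, a₁ b ≠ 0 := by
    by_contra hall
    push_neg at hall
    have : (1 : Localization.Away h) ∈ RingHom.ker a₁.toRingHom :=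
      (Ideal.span_le.2 fun b hb => hall b hb) (hs ▸ trivial)
    exact one_ne_zero ((map_one a₁).symm.trans this)
  haveI := hstd b hb
  let a₂ : Localization.Away b →ₐ[R] K := IsLocalization.liftAlgHom (M := Submonoid.powers b) (f := a₁) fun y => by
    obtain ⟨y, n, rfl⟩ := y
    exact IsUnit.mk0 _ (by rw [map_pow]; exact pow_ne_zero _ hb0)
  obtain ⟨R', _, _, het, χK, α₂, hα₂⟩ := exists_etale_section_pt R (Localization.Away b) p K a₂
  let iA : A →ₐ[R] Localization.Away b :=
    (IsScalarTower.toAlgHom R (Localization.Away h) (Localization.Away b)).comp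
      (IsScalarTower.toAlgHom R A (Localization.Away h))
  let α : A →ₐ[R] R' := α₂.comp iA
  have hα : ∀ y, χK (α y) = a y := by
    intro y
    show χK (α₂ (iA y)) = a y
    rw [show χK (α₂ (iA y)) = a₂ (iA y) from congr($hα₂ (iA y))]
    show a₂ (algebraMap _ _ (algebraMap A (Localization.Away h) y)) = a y
    rw [show a₂ (algebraMap _ (Localization.Away b) (algebraMap A _ y)) = a₁ (algebraMap A _ y) from
      IsLocalization.lift_eq _ _]
    exact IsLocalization.lift_eq _ _
  refine ⟨R', inferInstance, inferInstance, het, val.comp χK, α, ?_⟩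
  let Φ : R' ⊗[R] A →ₐ[R] K ⊗[R] A := Algebra.TensorProduct.map χK (AlgHom.id R A)
  let f' := Spec.map (CommRingCat.ofHom (algebraMap R' (R' ⊗[R] A)))
  let σ' := Spec.map (CommRingCat.ofHom
    (Algebra.TensorProduct.lift (AlgHom.id R R') α fun _ _ => Commute.all _ _).toRingHom)
  let z₀ : Spec (CommRingCat.of (R' ⊗[R] A)) := (⟨RingHom.ker (Algebra.TensorProduct.lift (val.comp χK) ω
    fun _ _ => Commute.all _ _).toRingHom, RingHom.ker_isPrime _⟩ : PrimeSpectrum (R' ⊗[R] A))
  let c : PrimeSpectrum (K ⊗[R] A) → Spec (CommRingCat.of (R' ⊗[R] A)) := PrimeSpectrum.comap Φ.toRingHom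
  let u : Spec (CommRingCat.of R') := (⟨RingHom.ker χK.toRingHom, RingHom.ker_isPrime _⟩ : PrimeSpectrum R')
  have hcz : c z' = z₀ := by
    refine PrimeSpectrum.ext ?_
    show Ideal.comap Φ.toRingHom (RingHom.ker lz.toRingHom) = _
    rw [RingHom.comap_ker]
    refine congrArg RingHom.ker ?_
    exact congrArg AlgHom.toRingHom (show lz.comp Φ = Algebra.TensorProduct.lift (val.comp χK) ω
      fun _ _ => Commute.all _ _ from Algebra.TensorProduct.ext' fun r y => by simp [lz, Φ])
  have hfib : ∀ y, f'.base (c y) = u := by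
    intro y
    refine PrimeSpectrum.ext ?_
    show Ideal.comap (algebraMap R' (R' ⊗[R] A)) (Ideal.comap Φ.toRingHom y.asIdeal) = RingHom.ker χK.toRingHom
    haveI := y.isPrime
    ext r
    show Φ (r ⊗ₜ[R] 1) ∈ y.asIdeal ↔ χK r = 0
    rw [Algebra.TensorProduct.map_tmul, map_one]
    refine ⟨fun h => ?_, fun h => by rw [h, TensorProduct.zero_tmul]; exact y.asIdeal.zero_mem⟩
    by_contra hne
    exact y.isPrime.ne_top (Ideal.eq_top_of_isUnit_mem _ h
      ((IsUnit.mk0 _ hne).map (algebraMap K (K ⊗[R] A))))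
  have hcw : c w' = σ'.base u := by
    refine PrimeSpectrum.ext ?_
    show Ideal.comap Φ.toRingHom (RingHom.ker a') = Ideal.comap
      (Algebra.TensorProduct.lift (AlgHom.id R R') α fun _ _ => Commute.all _ _).toRingHom (RingHom.ker χK.toRingHom)
    rw [RingHom.comap_ker, RingHom.comap_ker]
    refine congrArg RingHom.ker (RingHom.ext fun y => ?_)
    induction y using TensorProduct.induction_on with
    | zero => simp
    | add y₁ y₂ h₁ h₂ => rw [map_add, map_add, h₁, h₂]
    | tmul r y =>
      show a' (Φ (r ⊗ₜ[R] y)) = χK ((Algebra.TensorProduct.lift (AlgHom.id R R') α fun _ _ => Commute.all _ _) (r ⊗ₜ[R] y))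
      rw [Algebra.TensorProduct.map_tmul, Algebra.TensorProduct.lift_tmul, map_mul, hα]
      show a' (χK r ⊗ₜ[R] y) = χK r * a y
      rw [show χK r ⊗ₜ[R] y = algebraMap K (K ⊗[R] A) (χK r) * ((1 : K) ⊗ₜ[R] y) by
        rw [Algebra.TensorProduct.algebraMap_apply, Algebra.TensorProduct.tmul_mul_tmul, mul_one, one_mul]; rfl,
        map_mul, ha']
      rfl
  show z₀ ∈ connectedComponentIn (f' ⁻¹' {f'.base z₀}) (σ'.base (f'.base z₀))
  rw [show f'.base z₀ = u from hcz ▸ hfib z']
  have h1 : c '' Z ⊆ connectedComponentIn (f' ⁻¹' {u}) (σ'.base u) :=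
    (hZ.image c (PrimeSpectrum.continuous_comap Φ.toRingHom).continuousOn).subset_connectedComponentIn
      ⟨w', hOZ (hVO hw'V), hcw⟩ (by rintro _ ⟨y, -, rfl⟩; exact hfib y)
  exact h1 ⟨z', hzZ, hcz⟩

end Groth.Agent.EtPBC63.RedFib
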