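import Groth.Agent.EtPBC63.RedFib.Section
import Groth.Agent.EtPBC63.RedFib.GoodNbhd
import Groth.Agent.EtFound.FiniteBaseChange
import Groth.Agent.AlgSpDec.OneFlat

/-!
# Base change along a flat morphism with geometrically reduced fibres
-/

universe u

open CategoryTheory CategoryTheory.Limits AlgebraicGeometry Opposite TensorProduct

namespace Groth.Agent.EtPBC63.RedFib

open EtFound Gabber FlatConn

set_option backward.isDefEq.respectTransparency.types false

variable {X S Y T : Scheme.{u}} {f : X ⟶ S} {g : T ⟶ S} {h : Y ⟶ X} {e : Y ⟶ T} (hc : IsPullback e h g f)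

/-- Geometric reducedness at a point from reducedness of all base changes to fields. -/
theorem E_of_forall_field {A B : Scheme.{u}} (φ : A ⟶ B)
    (hred : ∀ (L : Type u) [Field L] (k : Spec (CommRingCat.of L) ⟶ B), IsReduced (pullback φ k)) (x : A) :
    GeomRedFlat5.E φ x := by
  let L := AlgebraicClosure (B.residueField (φ.base x))
  let k : Spec (CommRingCat.of L) ⟶ B :=
    Spec.map (CommRingCat.ofHom (algebraMap (B.residueField (φ.base x)) L)) ≫ B.fromSpecResidueField (φ.base x)
  let o : Spec (CommRingCat.of L) := IsLocalRing.closedPoint L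
  obtain ⟨z, hz, -⟩ := Scheme.Pullback.exists_preimage_pullback (f := φ) (g := k) x o (by
    show φ.base x = k.base o
    rw [Scheme.Hom.comp_apply]
    exact (Scheme.fromSpecResidueField_apply _ _).symm)
  haveI := hred L k
  exact GeomRedFlat5.E_of_isReduced_field k z hz inferInstance

/-- The map attached to a neighbourhood in `X` mapping to an étale `U → S`. -/
noncomputable def toBase {U : S.Etale} {V : X.Etale} (r : V ⟶ (EtCoh.bc f).obj U) :
    (EtCoh.bc h).obj V ⟶ (EtCoh.bc e).obj ((EtCoh.bc g).obj U) :=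
  (EtCoh.bc h).map r ≫ bcSquare hc.w U

theorem isPullback_toBase {U : S.Etale} {V : X.Etale} (r : V ⟶ (EtCoh.bc f).obj U) :
    IsPullback (pullback.fst V.hom h) ((toBase hc r).left ≫ pullback.fst ((EtCoh.bc g).obj U).hom e)
      (r.left ≫ pullback.fst U.hom f) (pullback.fst U.hom g) := by
  have key : IsPullback (pullback.fst V.hom h) (((EtCoh.bc h).obj V).hom ≫ e) (V.hom ≫ f) g :=
    (IsPullback.of_hasPullback V.hom h).paste_vert hc.flip
  have h1 : ((toBase hc r).left ≫ pullback.fst ((EtCoh.bc g).obj U).hom e) ≫ pullback.snd U.hom g =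
      ((EtCoh.bc h).obj V).hom ≫ e := by
    refine (Category.assoc _ _ _).trans ((congrArg ((toBase hc r).left ≫ ·) pullback.condition).trans ?_)
    exact (Category.assoc _ _ _).symm.trans (congrArg (· ≫ e) (MorphismProperty.Over.w (toBase hc r)))
  have h2 : V.hom ≫ f = (r.left ≫ pullback.fst U.hom f) ≫ U.hom := by
    refine ((congrArg (· ≫ f) (MorphismProperty.Over.w r).symm).trans (Category.assoc _ _ _)).trans ?_
    exact (congrArg (r.left ≫ ·) pullback.condition.symm).trans (Category.assoc _ _ _).symm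
  have h3 : pullback.fst V.hom h ≫ r.left ≫ pullback.fst U.hom f =
      ((toBase hc r).left ≫ pullback.fst ((EtCoh.bc g).obj U).hom e) ≫ pullback.fst U.hom g := by
    refine Eq.trans ?_ (Category.assoc _ _ _).symm
    refine Eq.trans ?_ (((congrArg (((EtCoh.bc h).map r).left ≫ ·) (bcSquare_fst hc.w U)).symm.trans
      (Category.assoc _ _ _).symm))
    refine ((Category.assoc _ _ _).symm.trans ?_).trans (Category.assoc _ _ _)
    exact congrArg (· ≫ pullback.fst U.hom f) (pullback.lift_fst _ _ _).symm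
  refine IsPullback.of_bot ?_ h3 (IsPullback.of_hasPullback U.hom g)
  exact (congrArg₂ (fun a d => IsPullback (pullback.fst V.hom h) a d g) h1 h2.symm).mpr key

variable (F : EtCoh.Ab T)

theorem stalk_base_change {Ω : Type u} [Field Ω] [IsSepClosed Ω] (ξ : Spec (CommRingCat.of Ω) ⟶ X) (U : S.Etale)
    (z : (Scheme.pointSmallEtale ξ).fiber.obj ((EtCoh.bc f).obj U)) (s : F.obj.obj (op ((EtCoh.bc g).obj U))) :
    (Scheme.pointSmallEtale ξ).presheafFiber.map (EtCoh.baseChange0 g f h e hc.w F).hom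
        ((Scheme.pointSmallEtale ξ).toPresheafFiber _ z ((EtCoh.pull f).obj ((EtCoh.push g).obj F)).obj
          (pb f ((EtCoh.push g).obj F) U s)) =
      (Scheme.pointSmallEtale ξ).toPresheafFiber _ z ((EtCoh.push h).obj ((EtCoh.pull e).obj F)).obj
        (((EtCoh.pull e).obj F).obj.map (bcSquare hc.w U).op (pb e F _ s)) :=
  (stalk_map_germ (EtCoh.baseChange0 g f h e hc.w F) _ z _).trans
    (congrArg _ (ConcreteCategory.congr_hom (baseChange0_unit g f h e hc.w F U) s))

theorem map_baseSection {U : S.Etale} {V : X.Etale} (r : V ⟶ (EtCoh.bc f).obj U)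
    (s : F.obj.obj (op ((EtCoh.bc g).obj U))) :
    ((EtCoh.push h).obj ((EtCoh.pull e).obj F)).obj.map r.op
        (((EtCoh.pull e).obj F).obj.map (bcSquare hc.w U).op (pb e F _ s)) =
      ((EtCoh.pull e).obj F).obj.map (toBase hc r).op (pb e F _ s) := by
  show ((EtCoh.pull e).obj F).obj.map ((EtCoh.bc h).map r).op _ = _
  rw [← Functor.map_comp_apply, ← op_comp]
  rfl

theorem injective_stalk [Flat f] [LocallyOfFinitePresentation f] {Ω : Type u} [Field Ω] [IsSepClosed Ω]
    (ξ : Spec (CommRingCat.of Ω) ⟶ X) :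
    Function.Injective ((Scheme.pointSmallEtale ξ).presheafFiber.map (EtCoh.baseChange0 g f h e hc.w F).hom) := by
  let G := (EtCoh.push g).obj F
  let Φ := Scheme.pointSmallEtale ξ
  refine (injective_iff_map_eq_zero _).mpr fun c hc0 => ?_
  obtain ⟨c', rfl⟩ := ((ConcreteCategory.isIso_iff_bijective
    ((sheafFiberPullIso (A := AddCommGrpCat.{u + 1}) f ξ).inv.app G)).mp inferInstance).2 c
  obtain ⟨U, u, s, rfl⟩ := (Scheme.pointSmallEtale (ξ ≫ f)).toPresheafFiber_jointly_surjective c'
  let z := (bcFiberEquiv f ξ U).symm u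
  have hz : bcFiberEquiv f ξ U z = u := Equiv.apply_symm_apply _ _
  have e1 := germ_pb f G U z s
  rw [hz] at e1
  refine e1.trans ?_
  replace hc0 := (congrArg (Φ.presheafFiber.map (EtCoh.baseChange0 g f h e hc.w F).hom) e1.symm).trans hc0
  rw [stalk_base_change hc F, ← map_zero (Φ.toPresheafFiber ((EtCoh.bc f).obj U) z
    ((EtCoh.push h).obj ((EtCoh.pull e).obj F)).obj).hom] at hc0
  obtain ⟨V, r, v, hv, he⟩ := (Φ.toPresheafFiber_eq_iff' _ z _ _).1 hc0
  rw [map_zero, map_baseSection hc F] at he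
  let pf : ((EtCoh.bc f).obj U).left ⟶ U.left := pullback.fst U.hom f
  let q₀ : V.left ⟶ U.left := r.left ≫ pf
  haveI := etale_left r
  haveI : Flat pf := MorphismProperty.pullback_fst _ _ ‹Flat f›
  haveI : LocallyOfFinitePresentation pf :=
    MorphismProperty.pullback_fst _ _ ‹LocallyOfFinitePresentation f›
  haveI : Flat q₀ := MorphismProperty.comp_mem _ _ _ inferInstance inferInstance
  haveI : LocallyOfFinitePresentation q₀ := MorphismProperty.comp_mem _ _ _ inferInstance inferInstance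
  let O : U.left.Opens := ⟨q₀.base '' Set.univ, q₀.isOpenMap _ isOpen_univ⟩
  have huO : ptOf u ∈ O := by
    refine ⟨ptOf v, trivial, ?_⟩
    rw [← hz, ← hv]
    show ((v.left : Spec (CommRingCat.of Ω) ⟶ V.left) ≫ q₀).base (default : Spec (CommRingCat.of Ω)) =
      (((v.left : Spec (CommRingCat.of Ω) ⟶ V.left) ≫ r.left) ≫ pf).base (default : Spec (CommRingCat.of Ω))
    rw [Category.assoc]
    rfl
  obtain ⟨u', hu', -⟩ := exists_lift_point (restrictEtaleHom U O) u ⟨ptOf u, huO⟩ rfl
  have hs : G.obj.map (restrictEtaleHom U O).op s = 0 := by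
    show F.obj.map ((EtCoh.bc g).map (restrictEtaleHom U O)).op s = 0
    refine eq_zero_of_germSupp _ (Set.eq_empty_of_forall_notMem fun t ht => ?_)
    let m := (EtCoh.bc g).map (restrictEtaleHom U O)
    have ht' : m.left.base t ∈ germSupp F _ s := (germSupp_map m s t).mp ht
    obtain ⟨x, -, hx⟩ : (pullback.fst U.hom g).base (m.left.base t) ∈ O := by
      rw [bc_fst g (restrictEtaleHom U O) t]
      exact ((pullback.fst (restrictEtale U O).hom g).base t).2
    obtain ⟨y, -, hy⟩ := Scheme.exists_preimage_of_isPullback (isPullback_toBase hc r) x (m.left.base t) hx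
    let y' : ((EtCoh.bc h).obj V).left := y
    have h4 : y' ∈ germSupp ((EtCoh.pull e).obj F) _
        (((EtCoh.pull e).obj F).obj.map (toBase hc r).op (pb e F _ s)) := by
      refine (germSupp_map (toBase hc r) _ y').mpr ((germSupp_pb e F _ s _).mpr ?_)
      have h6 : (pullback.fst ((EtCoh.bc g).obj U).hom e).base ((toBase hc r).left.base y') = m.left.base t :=
        (Scheme.Hom.comp_apply _ _ y').symm.trans hy
      rw [h6]
      exact ht'
    rw [he] at h4
    exact germSupp_zero _ _ _ h4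
  refine e1.symm.trans ?_
  have e2 : (Scheme.pointSmallEtale (ξ ≫ f)).toPresheafFiber U u G.obj s = 0 := by
    rw [← hu', ← (Scheme.pointSmallEtale (ξ ≫ f)).toPresheafFiber_w_apply (restrictEtaleHom U O) u' G.obj s, hs, map_zero]
  exact (congrArg _ e2).trans (map_zero _)

include hc in
/- The affine-local core: a neighbourhood on which a section comes from the base. -/
set_option maxHeartbeats 1000000 in
theorem exists_base_section [Flat f] [LocallyOfFinitePresentation f] [QuasiCompact g]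
    (hred : ∀ (s : S) (K : Type u) [Field K] (k : Spec (CommRingCat.of K) ⟶ S),
      Set.range k = {s} → IsReduced (pullback f k))
    {Ω : Type u} [Field Ω] [IsSepClosed Ω] {ξ : Spec (CommRingCat.of Ω) ⟶ X}
    (V : X.Etale) [IsAffine V.left] (v : (Scheme.pointSmallEtale ξ).fiber.obj V)
    (S₀ : S.Opens) (hS₀ : IsAffineOpen S₀) (hV : ⊤ ≤ (V.hom ≫ f) ⁻¹ᵁ S₀)
    (τ : ((EtCoh.pull e).obj F).obj.obj (op ((EtCoh.bc h).obj V))) :
    ∃ (U : S.Etale) (V' : X.Etale) (m : V' ⟶ V) (r : V' ⟶ (EtCoh.bc f).obj U)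
      (v' : (Scheme.pointSmallEtale ξ).fiber.obj V') (s : F.obj.obj (op ((EtCoh.bc g).obj U))),
      (Scheme.pointSmallEtale ξ).fiber.map m v' = v ∧
      ((EtCoh.pull e).obj F).obj.map ((EtCoh.bc h).map m).op τ =
        ((EtCoh.pull e).obj F).obj.map (toBase hc r).op (pb e F _ s) := by
  classical
  let P := (EtCoh.pull e).obj F
  haveI := V.prop
  let R := Γ(S, S₀)
  let A := Γ(V.left, ⊤)
  let fV := V.hom ≫ f
  haveI : Flat fV := MorphismProperty.comp_mem _ _ _ (inferInstance : Flat V.hom) ‹Flat f›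
  haveI : LocallyOfFinitePresentation fV := MorphismProperty.comp_mem _ _ _
    (inferInstance : LocallyOfFinitePresentation V.hom) ‹LocallyOfFinitePresentation f›
  let hA : IsAffineOpen (⊤ : V.left.Opens) := isAffineOpen_top _
  let φ := fV.appLE S₀ ⊤ hV
  letI : Algebra R A := φ.hom.toAlgebra
  haveI : Algebra.FinitePresentation R A := fV.finitePresentation_appLE hS₀ hA hV
  haveI : Module.Flat R A := fV.flat_appLE hS₀ hA hV
  let jV : Spec A ⟶ V.left := hA.fromSpec
  haveI : IsIso jV := by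
    show IsIso (isAffineOpen_top V.left).fromSpec
    rw [IsAffineOpen.fromSpec_top]
    infer_instance
  have hφ : Spec.map φ ≫ hS₀.fromSpec = jV ≫ fV := IsAffineOpen.SpecMap_appLE_fromSpec fV hS₀ hA hV
  -- reduced fibres
  have hredA : ∀ (L : Type u) [Field L] [Algebra R L], IsReduced (pullback (Spec.map (CommRingCat.ofHom (algebraMap R A)))
      (Spec.map (CommRingCat.ofHom (algebraMap R L)))) := by
    intro L _ _
    let k := Spec.map (CommRingCat.ofHom (algebraMap R L)) ≫ hS₀.fromSpec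
    have hk : Set.range k = {k.base (IsLocalRing.closedPoint L)} := by
      ext y
      refine ⟨?_, fun hy => ⟨_, hy.symm⟩⟩
      rintro ⟨o, rfl⟩
      exact congrArg k.base (Subsingleton.elim (α := PrimeSpectrum L) _ _)
    haveI := hred _ L k hk
    haveI : IsReduced (pullback V.hom (pullback.fst f k)) := AlgSpDec.isReduced_of_etaleMor (pullback.snd V.hom (pullback.fst f k))
    haveI : IsReduced (pullback fV k) :=
      isReduced_of_isOpenImmersion (pullbackRightPullbackFstIso f k V.hom).inv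
    have h1 : IsPullback (pullback.fst (Spec.map φ) (Spec.map (CommRingCat.ofHom (algebraMap R L))) ≫ jV)
        (pullback.snd (Spec.map φ) (Spec.map (CommRingCat.ofHom (algebraMap R L)))) fV k := by
      have h2 : IsPullback jV (Spec.map φ) fV hS₀.fromSpec :=
        IsPullback.mk ⟨hφ.symm⟩ ⟨PullbackCone.IsLimit.mk _ (fun s => s.fst ≫ inv jV)
          (fun s => by rw [Category.assoc, IsIso.inv_hom_id, Category.comp_id])
          (fun s => (cancel_mono hS₀.fromSpec).1 (by
            rw [Category.assoc, hφ, Category.assoc, IsIso.inv_hom_id_assoc]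
            exact s.condition))
          (fun s l h1 _ => by rw [← h1, Category.assoc, IsIso.hom_inv_id, Category.comp_id])⟩
      exact (IsPullback.of_hasPullback _ _).paste_horiz h2
    exact isReduced_of_isOpenImmersion h1.isoPullback.hom
  -- the geometric point
  let l : Spec (CommRingCat.of Ω) ⟶ V.left := v.left
  obtain ⟨ω₀, hω₀⟩ := Spec.map_surjective (l ≫ inv jV)
  letI : Algebra R Ω := (ω₀.hom.comp (algebraMap R A)).toAlgebra
  let ω : A →ₐ[R] Ω := { ω₀.hom with commutes' := fun _ => rfl }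
  obtain ⟨R', _, _, het, χ, α, hSC⟩ := exists_good_nbhd hredA ω
  let gU := Spec.map (CommRingCat.ofHom (algebraMap R R'))
  haveI : Etale gU := (HasRingHomProperty.Spec_iff (P := @Etale)).2 (RingHom.etale_algebraMap.2 het)
  haveI : Etale (gU ≫ hS₀.fromSpec) := inferInstance
  let U : S.Etale := Scheme.Etale.mk (gU ≫ hS₀.fromSpec)
  let B := R' ⊗[R] A
  let iR := Spec.map (CommRingCat.ofHom (Algebra.TensorProduct.includeRight : A →ₐ[R] B).toRingHom)
  let iL := Spec.map (CommRingCat.ofHom (algebraMap R' B))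
  have hsq : IsPullback iR iL (Spec.map φ) gU := GeomRedFlat5.isPullback_tensor R R' A
  haveI : Etale iR := MorphismProperty.of_isPullback hsq.flip ‹Etale gU›
  haveI : Etale ((iR ≫ jV) ≫ V.hom) := inferInstance
  let V₂ : X.Etale := Scheme.Etale.mk ((iR ≫ jV) ≫ V.hom)
  haveI : IsAffine V₂.left := inferInstanceAs (IsAffine (Spec (CommRingCat.of B)))
  have hw2 : iL ≫ gU ≫ hS₀.fromSpec = ((iR ≫ jV) ≫ V.hom) ≫ f := by
    rw [← Category.assoc, ← hsq.w, Category.assoc, hφ]
    simp only [fV, Category.assoc]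
  let r : V₂ ⟶ (EtCoh.bc f).obj U :=
    MorphismProperty.Over.homMk (pullback.lift iL ((iR ≫ jV) ≫ V.hom) hw2) (pullback.lift_snd _ _ _) trivial
  let m : V₂ ⟶ V := MorphismProperty.Over.homMk (iR ≫ jV) rfl trivial
  let lz := Spec.map (CommRingCat.ofHom (Algebra.TensorProduct.lift χ ω fun _ _ => Commute.all _ _).toRingHom)
  have hlz : lz ≫ iR ≫ jV = l := by
    have h1 : lz ≫ iR = Spec.map ω₀ := by
      rw [comp_spec_map]
      refine congrArg Spec.map (CommRingCat.hom_ext (RingHom.ext fun a => ?_))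
      show (Algebra.TensorProduct.lift χ ω fun _ _ => Commute.all _ _) ((1 : R') ⊗ₜ[R] a) = ω₀.hom a
      rw [Algebra.TensorProduct.lift_tmul, map_one, one_mul]
      rfl
    rw [← Category.assoc, h1, hω₀, Category.assoc, IsIso.inv_hom_id, Category.comp_id]
  let v₂ : (Scheme.pointSmallEtale ξ).fiber.obj V₂ := CategoryTheory.Over.homMk lz (by
    show lz ≫ (iR ≫ jV) ≫ V.hom = ξ
    rw [← Category.assoc lz, hlz]
    exact CategoryTheory.Over.w v)
  have hmv : (Scheme.pointSmallEtale ξ).fiber.map m v₂ = v := CategoryTheory.Over.OverMorphism.ext hlz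
  -- the section over the new base
  let σ : Spec (CommRingCat.of R') ⟶ Spec (CommRingCat.of B) := Spec.map (CommRingCat.ofHom
    (Algebra.TensorProduct.lift (AlgHom.id R R') α fun _ _ => Commute.all _ _).toRingHom)
  have hσ : σ ≫ iL = 𝟙 _ := by
    refine (comp_spec_map _ _).trans ?_
    rw [show (Algebra.TensorProduct.lift (AlgHom.id R R') α fun _ _ => Commute.all _ _).toRingHom.comp
      (algebraMap R' B) = RingHom.id R' from RingHom.ext fun a => by
        show (Algebra.TensorProduct.lift (AlgHom.id R R') α fun _ _ => Commute.all _ _) (a ⊗ₜ[R] (1 : A)) = a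
        rw [Algebra.TensorProduct.lift_tmul, map_one, mul_one]; rfl, CommRingCat.ofHom_id, Spec.map_id]
  let Ũ := (EtCoh.bc g).obj U
  let W := (EtCoh.bc h).obj V₂
  let a := toBase hc r
  let qU : Ũ.left ⟶ Spec (CommRingCat.of R') := pullback.fst U.hom g
  let q : W.left ⟶ Spec (CommRingCat.of B) := pullback.fst V₂.hom h
  let p : W.left ⟶ Ũ.left := a.left ≫ pullback.fst Ũ.hom e
  have hsqW : IsPullback q p iL qU := by
    have h1 := isPullback_toBase hc r
    rwa [show r.left ≫ pullback.fst U.hom f = iL from pullback.lift_fst _ _ _] at h1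
  let j : Ũ.left ⟶ W.left := hsqW.lift (qU ≫ σ) (𝟙 _) (by rw [Category.assoc, hσ, Category.id_comp]; exact Category.comp_id _)
  let τ₂ := P.obj.map ((EtCoh.bc h).map m).op τ
  obtain ⟨s, hs⟩ := exists_section_along e F a j (hsqW.lift_snd _ _ _) τ₂
  let D := germSupp P W (τ₂ - P.obj.map a.op (pb e F Ũ s))
  -- propagation along the section components
  have hjp : j ≫ p = 𝟙 _ := hsqW.lift_snd _ _ _
  have hSC' := Groth.Agent.S1324.result iL σ hσ p q qU hsqW j hjp (hsqW.lift_fst _ _ _)
  have hprop : ∀ y, y ∈ MoreMor.sectionComponents p j → y ∉ D := by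
    intro y hy hyD
    let t := p.base y
    have hclopen : ∀ q' ∈ D, ∃ N : Set W.left, IsOpen N ∧ q' ∈ N ∧
        ∀ y' ∈ N, p.base y' = p.base q' → y' ∈ D := by
      intro q' hq'
      obtain ⟨N, hN, hqN, hN'⟩ := fibre_open e F a τ₂ s q' hq'
      exact ⟨N, hN, hqN, fun y' hy' he => hN' y' hy'
        (((Scheme.Hom.comp_apply _ _ y').symm.trans he).trans (Scheme.Hom.comp_apply _ _ q'))⟩
    choose N hN hqN hNfib using hclopen
    let O₁ : Set W.left := ⋃ (q') (hq' : q' ∈ D) (_ : p.base q' = t), N q' hq'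
    have hO₁ : IsOpen O₁ := isOpen_iUnion fun q' => isOpen_iUnion fun hq' => isOpen_iUnion fun _ => hN q' hq'
    have hjt : j.base t ∈ p.base ⁻¹' {t} := by
      show p.base (j.base t) = t
      rw [← Scheme.Hom.comp_apply, hjp]; rfl
    have hCf := connectedComponentIn_subset (p.base ⁻¹' {t}) (j.base t)
    obtain ⟨q'', hq''C, hq''D, hq''O⟩ := isPreconnected_connectedComponentIn Dᶜ O₁
      (isClosed_germSupp _ _ _).isOpen_compl hO₁
      (fun q' hq' => (em (q' ∈ D)).elim
        (fun hd => Or.inr (Set.mem_iUnion.mpr ⟨q', Set.mem_iUnion₂.mpr ⟨hd, hCf hq', hqN q' hd⟩⟩)) Or.inl)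
      ⟨j.base t, mem_connectedComponentIn hjt, hs t⟩
      ⟨y, hy, Set.mem_iUnion.mpr ⟨y, Set.mem_iUnion₂.mpr ⟨hyD, rfl, hqN y hyD⟩⟩⟩
    obtain ⟨q', hq'⟩ := Set.mem_iUnion.mp hq''O
    obtain ⟨hq'D, hq't, hqq'⟩ := Set.mem_iUnion₂.mp hq'
    exact hq''D (hNfib q' hq'D q'' hqq' ((hCf hq''C : p.base q'' = t).trans hq't.symm))
  haveI : QuasiCompact qU := MorphismProperty.pullback_fst _ _ ‹QuasiCompact g›
  haveI : QuasiCompact q := MorphismProperty.of_isPullback hsqW.flip ‹QuasiCompact qU›
  haveI : CompactSpace W.left := QuasiCompact.compactSpace_of_compactSpace q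
  haveI : SpectralSpace ↥(Spec (CommRingCat.of B)) := {}
  let z₀ : Spec (CommRingCat.of B) := ptOf v₂
  have hz₀ : z₀ ∈ MoreMor.sectionComponents iL σ := by
    have e : z₀ = (⟨RingHom.ker (Algebra.TensorProduct.lift χ ω fun _ _ => Commute.all _ _).toRingHom,
        RingHom.ker_isPrime _⟩ : PrimeSpectrum (R' ⊗[R] A)) := by
      refine PrimeSpectrum.ext ?_
      show PrimeSpectrum.asIdeal (lz.base (default : Spec (CommRingCat.of Ω))) = _
      rw [Subsingleton.elim (α := PrimeSpectrum Ω) (default : Spec (CommRingCat.of Ω)) ⟨⊥, Ideal.isPrime_bot⟩]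
      rfl
    rw [e]
    exact hSC
  have hE : ∀ z : Spec (CommRingCat.of B), GeomRedFlat5.E iL z := fun z =>
    (GeomRedFlat5.E_iff_of_isPullback hsq z).2 (E_of_forall_field _ (fun L _ k => by
      obtain ⟨ψ, rfl⟩ := Spec.map_surjective k
      letI : Algebra R L := ψ.hom.toAlgebra
      exact hredA L) _)
  haveI : Flat iL := MorphismProperty.of_isPullback hsq
    ((HasRingHomProperty.Spec_iff (P := @Flat)).2 (RingHom.flat_algebraMap_iff.2 ‹Module.Flat R A›))
  haveI : LocallyOfFinitePresentation iL := MorphismProperty.of_isPullback hsq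
    ((HasRingHomProperty.Spec_iff (P := @LocallyOfFinitePresentation)).2
      (RingHom.finitePresentation_algebraMap.2 ‹Algebra.FinitePresentation R A›))
  have hO : z₀ ∉ closure (q.base '' D) := by
    intro hcl
    obtain ⟨v', ⟨y, hy, rfl⟩, hsp⟩ := (cc_image q (isClosed_germSupp _ _ _)).exists_specializes hcl
    refine hprop y ?_ hy
    rw [hSC', Set.mem_preimage]
    exact mem_sectionComponents_of_specializes (X := Spec (CommRingCat.of B)) (Y := Spec (CommRingCat.of R'))
      iL σ hσ (x := z₀) (x' := q.base y) hsp (fun z _ => hE z) hz₀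
  let O : V₂.left.Opens := ⟨(closure (q.base '' D))ᶜ, isClosed_closure.isOpen_compl⟩
  let ι := restrictEtaleHom V₂ O
  obtain ⟨v', hv', -⟩ := exists_lift_point ι v₂ ⟨z₀, hO⟩ rfl
  refine ⟨U, restrictEtale V₂ O, ι ≫ m, ι ≫ r, v', s, ?_, ?_⟩
  · rw [Functor.map_comp]
    exact (congrArg _ hv').trans hmv
  · rw [← sub_eq_zero]
    refine eq_zero_of_germSupp _ (Set.eq_empty_of_forall_notMem fun y hy => ?_)
    have e2 : P.obj.map ((EtCoh.bc h).map (ι ≫ m)).op τ - P.obj.map (toBase hc (ι ≫ r)).op (pb e F _ s) =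
        P.obj.map ((EtCoh.bc h).map ι).op (τ₂ - P.obj.map a.op (pb e F Ũ s)) := by
      rw [map_sub, ← Functor.map_comp_apply, ← Functor.map_comp_apply, ← op_comp, ← op_comp, ← Functor.map_comp]
      simp only [toBase, a, Functor.map_comp, Category.assoc]
      rfl
    rw [e2, germSupp_map] at hy
    have h5 : q.base (((EtCoh.bc h).map ι).left.base y) ∈ O := by
      rw [show q.base (((EtCoh.bc h).map ι).left.base y) = _ from bc_fst h ι y]
      exact ((pullback.fst (restrictEtale V₂ O).hom h).base y).2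
    exact h5 (subset_closure ⟨_, hy, rfl⟩)

include hc in
/-- The base change map along a flat morphism with geometrically reduced fibres is an isomorphism. -/
theorem isIso_baseChange0 [Flat f] [LocallyOfFinitePresentation f] [QuasiCompact g]
    (hred : ∀ (s : S) (K : Type u) [Field K] (k : Spec (CommRingCat.of K) ⟶ S),
      Set.range k = {s} → IsReduced (pullback f k)) :
    IsIso (EtCoh.baseChange0 g f h e hc.w F) := by
  refine isIso_of_stalks _ fun Ω _ _ ξ => ⟨injective_stalk hc F ξ, fun c => ?_⟩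
  let Φ := Scheme.pointSmallEtale ξ
  let P := (EtCoh.pull e).obj F
  obtain ⟨V₀, v₀, τ₀, rfl⟩ := Φ.toPresheafFiber_jointly_surjective c
  obtain ⟨S₀, hS₀, hsS₀, -⟩ := exists_isAffineOpen_mem_and_subset (U := (⊤ : S.Opens))
    (x := (V₀.hom ≫ f).base (ptOf v₀)) trivial
  let O : V₀.left.Opens := (V₀.hom ≫ f) ⁻¹ᵁ S₀
  obtain ⟨v₁, hv₁, -⟩ := exists_lift_point (restrictEtaleHom V₀ O) v₀ ⟨ptOf v₀, hsS₀⟩ rfl
  obtain ⟨V, hV, r₁, v, hv⟩ := exists_affine_nhd (restrictEtale V₀ O) v₁
  haveI := hV
  let r₀ : V ⟶ V₀ := r₁ ≫ restrictEtaleHom V₀ O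
  have hr₀ : Φ.fiber.map r₀ v = v₀ := by
    rw [Functor.map_comp]
    exact (congrArg _ hv).trans hv₁
  have hle : ⊤ ≤ (V.hom ≫ f) ⁻¹ᵁ S₀ := by
    intro x _
    show (V.hom ≫ f).base x ∈ S₀
    rw [← MorphismProperty.Over.w r₀, Category.assoc, Scheme.Hom.comp_apply]
    exact (r₁.left.base x).2
  let τ : P.obj.obj (op ((EtCoh.bc h).obj V)) := ((EtCoh.push h).obj P).obj.map r₀.op τ₀
  obtain ⟨U, V', m, r, v', s, hmv, heq⟩ := exists_base_section hc F hred V v S₀ hS₀ hle τ
  refine ⟨Φ.toPresheafFiber _ (Φ.fiber.map r v') ((EtCoh.pull f).obj ((EtCoh.push g).obj F)).obj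
    (pb f ((EtCoh.push g).obj F) U s), ?_⟩
  rw [stalk_base_change hc F, ← Φ.toPresheafFiber_w_apply r v' ((EtCoh.push h).obj P).obj, map_baseSection hc F,
    ← heq]
  show Φ.toPresheafFiber V' v' ((EtCoh.push h).obj P).obj (((EtCoh.push h).obj P).obj.map m.op τ) = _
  rw [Φ.toPresheafFiber_w_apply m v' ((EtCoh.push h).obj P).obj τ, hmv]
  exact (Φ.toPresheafFiber_w_apply r₀ v ((EtCoh.push h).obj P).obj τ₀).trans
    (congrArg (fun w => Φ.toPresheafFiber V₀ w ((EtCoh.push h).obj P).obj τ₀) hr₀)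

end Groth.Agent.EtPBC63.RedFib
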