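import Groth.Agent.EtPBC63.RedFib.SCGenNoeth

/-!
# Section components are stable under generization where the fibre is geometrically reduced
-/

set_option autoImplicit false

universe u

open CategoryTheory CategoryTheory.Limits AlgebraicGeometry TensorProduct

namespace Groth.Agent.EtPBC63.RedFib

theorem mem_sectionComponents_of_model {R B : Type u} [CommRing R] [CommRing B] [Algebra R B]
    {R₀ T : Type u} [CommRing R₀] [CommRing T] [Algebra R₀ R] [Algebra R₀ T] [IsNoetherianRing R₀]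
    [Algebra.FiniteType R₀ T] [Module.Flat R₀ T] (e : B ≃ₐ[R] R ⊗[R₀] T) (ρ : B →ₐ[R] R) (ρ₀ : T →ₐ[R₀] R₀)
    (hρ : ∀ t, ρ (GeomRedFlat5.modelMap e t) = algebraMap R₀ R (ρ₀ t))
    (q q' : PrimeSpectrum B) (hle : q'.asIdeal ≤ q.asIdeal)
    (hE : ∀ z : Spec (CommRingCat.of B),
      (Spec.map (CommRingCat.ofHom (algebraMap R B))).base z =
        (Spec.map (CommRingCat.ofHom (algebraMap R B))).base q →
      GeomRedFlat5.E (Spec.map (CommRingCat.ofHom (algebraMap R B))) z)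
    (hq : q ∈ MoreMor.sectionComponents (Spec.map (CommRingCat.ofHom (algebraMap R B)))
      (Spec.map (CommRingCat.ofHom ρ.toRingHom))) :
    q' ∈ MoreMor.sectionComponents (Spec.map (CommRingCat.ofHom (algebraMap R B)))
      (Spec.map (CommRingCat.ofHom ρ.toRingHom)) := by
  let f := Spec.map (CommRingCat.ofHom (algebraMap R B))
  let σ := Spec.map (CommRingCat.ofHom ρ.toRingHom)
  let f₂ := Spec.map (CommRingCat.ofHom (algebraMap R₀ T))
  let σ₂ := Spec.map (CommRingCat.ofHom ρ₀.toRingHom)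
  let g := Spec.map (CommRingCat.ofHom (algebraMap R₀ R))
  let p := Spec.map (CommRingCat.ofHom (GeomRedFlat5.modelMap e))
  have hsq : IsPullback p f f₂ g := GeomRedFlat5.isPullback_model e
  have hσ : σ ≫ f = 𝟙 _ := by
    rw [comp_spec_map, show ρ.toRingHom.comp (algebraMap R B) = RingHom.id R from RingHom.ext ρ.commutes,
      CommRingCat.ofHom_id, Spec.map_id]
  have hσ₂ : σ₂ ≫ f₂ = 𝟙 _ := by
    rw [comp_spec_map, show ρ₀.toRingHom.comp (algebraMap R₀ T) = RingHom.id R₀ from RingHom.ext ρ₀.commutes,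
      CommRingCat.ofHom_id, Spec.map_id]
  have hσg : σ ≫ p = g ≫ σ₂ := by
    rw [comp_spec_map, comp_spec_map]
    exact congrArg (fun k => Spec.map (CommRingCat.ofHom k)) (RingHom.ext hρ)
  have hSC := Groth.Agent.S1324.result f₂ σ₂ hσ₂ f p g hsq σ hσ hσg
  rw [hSC] at hq ⊢
  refine mem_sectionComponents_of_specializes_noetherian ρ₀ (p.base q) (p.base q') (Ideal.comap_mono hle) ?_ hq
  intro z hz
  obtain ⟨w, hw₁, hw₂⟩ := Scheme.exists_preimage_of_isPullback hsq z (f.base q) (hz.trans (by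
    exact (Scheme.Hom.comp_apply p f₂ (q : Spec (CommRingCat.of B))).symm.trans
      ((congr($(hsq.w) (q : Spec (CommRingCat.of B)))).trans (Scheme.Hom.comp_apply f g _))))
  exact hw₁ ▸ (GeomRedFlat5.E_iff_of_isPullback hsq w).1 (hE w hw₂)

/-- Enlarge a model of `B` over a subring so that a retraction descends. -/
theorem exists_retraction_model {R B A₁ B₁ : Type u} [CommRing R] [CommRing B] [Algebra R B]
    [CommRing A₁] [CommRing B₁] [Algebra A₁ R] [Algebra A₁ B₁] [IsNoetherianRing A₁]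
    [Algebra.FiniteType A₁ B₁] [Module.Flat A₁ B₁] (e : B ≃ₐ[R] R ⊗[A₁] B₁) (ρ : B →ₐ[R] R) :
    ∃ (R₀ T : Type u) (_ : CommRing R₀) (_ : CommRing T) (_ : Algebra R₀ R) (_ : Algebra R₀ T)
      (_ : IsNoetherianRing R₀) (_ : Algebra.FiniteType R₀ T) (_ : Module.Flat R₀ T)
      (e₀ : B ≃ₐ[R] R ⊗[R₀] T) (ρ₀ : T →ₐ[R₀] R₀),
      ∀ t, ρ (GeomRedFlat5.modelMap e₀ t) = algebraMap R₀ R (ρ₀ t) := by
  classical
  let h₁ : B₁ →ₐ[A₁] R :=
    { ((ρ.toRingHom.comp e.symm.toRingEquiv.toRingHom).comp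
      (Algebra.TensorProduct.includeRight : B₁ →ₐ[A₁] R ⊗[A₁] B₁).toRingHom) with
      commutes' := fun a => by
        show ρ (e.symm ((1 : R) ⊗ₜ[A₁] algebraMap A₁ B₁ a)) = algebraMap A₁ R a
        rw [← Algebra.TensorProduct.algebraMap_apply' a]
        rw [IsScalarTower.algebraMap_apply A₁ R (R ⊗[A₁] B₁), e.symm.commutes, ρ.commutes]
        rfl }
  obtain ⟨G, hG⟩ := (inferInstance : Algebra.FiniteType A₁ B₁).out
  let R₀ : Subalgebra A₁ R := Algebra.adjoin A₁ ((G.image h₁ : Finset R) : Set R)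
  haveI : Algebra.FiniteType A₁ R₀ := (Subalgebra.fg_iff_finiteType R₀).1 (Subalgebra.fg_adjoin_finset _)
  haveI : IsNoetherianRing R₀ := Algebra.FiniteType.isNoetherianRing A₁ R₀
  have hh₁ : ∀ b, h₁ b ∈ R₀ := by
    intro b
    have : (⊤ : Subalgebra A₁ B₁) ≤ R₀.comap h₁ := by
      rw [← hG]
      exact Algebra.adjoin_le fun y hy => Algebra.subset_adjoin (Finset.mem_coe.2 (Finset.mem_image_of_mem _ hy))
    exact this (Algebra.mem_top (x := b))
  let e₀ : B ≃ₐ[R] R ⊗[R₀] (R₀ ⊗[A₁] B₁) :=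
    e.trans (Algebra.TensorProduct.cancelBaseChange A₁ R₀ R R B₁).symm
  let ρ₀ : R₀ ⊗[A₁] B₁ →ₐ[R₀] R₀ := Algebra.TensorProduct.lift (Algebra.ofId R₀ R₀) (h₁.codRestrict R₀ hh₁)
    fun _ _ => Commute.all _ _
  refine ⟨R₀, R₀ ⊗[A₁] B₁, inferInstance, inferInstance, inferInstance, inferInstance, inferInstance,
    inferInstance, inferInstance, e₀, ρ₀, fun b => ?_⟩
  induction b using TensorProduct.induction_on with
  | zero => simp
  | add y z hy hz => rw [map_add, map_add, map_add, map_add, hy, hz]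
  | tmul a y =>
    show ρ (e.symm ((Algebra.TensorProduct.cancelBaseChange A₁ R₀ R R B₁) ((1 : R) ⊗ₜ[R₀] (a ⊗ₜ[A₁] y)))) =
      ((ρ₀ (a ⊗ₜ[A₁] y) : R₀) : R)
    rw [Algebra.TensorProduct.cancelBaseChange_tmul, Algebra.TensorProduct.lift_tmul]
    show _ = (a : R) * h₁ y
    rw [Algebra.smul_def, mul_one]
    show ρ (e.symm ((a : R) ⊗ₜ[A₁] y)) = (a : R) * ρ (e.symm ((1 : R) ⊗ₜ[A₁] y))
    rw [← smul_eq_mul (a : R), ← map_smul ρ, ← map_smul e.symm, TensorProduct.smul_tmul', smul_eq_mul, mul_one]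

theorem mem_sectionComponents_of_specializes_spec {R B : Type u} [CommRing R] [CommRing B] [Algebra R B]
    [Algebra.FinitePresentation R B] [Module.Flat R B] (ρ : B →ₐ[R] R) (q q' : PrimeSpectrum B)
    (hle : q'.asIdeal ≤ q.asIdeal)
    (hE : ∀ z : Spec (CommRingCat.of B),
      (Spec.map (CommRingCat.ofHom (algebraMap R B))).base z =
        (Spec.map (CommRingCat.ofHom (algebraMap R B))).base q →
      GeomRedFlat5.E (Spec.map (CommRingCat.ofHom (algebraMap R B))) z)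
    (hq : q ∈ MoreMor.sectionComponents (Spec.map (CommRingCat.ofHom (algebraMap R B)))
      (Spec.map (CommRingCat.ofHom ρ.toRingHom))) :
    q' ∈ MoreMor.sectionComponents (Spec.map (CommRingCat.ofHom (algebraMap R B)))
      (Spec.map (CommRingCat.ofHom ρ.toRingHom)) := by
  obtain ⟨A₁, B₁, _, _, hA₁, hfl, hfp, ⟨e⟩⟩ := SrcDescent.exists_flat_model R B
  haveI : Algebra.FiniteType ℤ A₁ := (Subalgebra.fg_iff_finiteType A₁).1 hA₁
  haveI : IsNoetherianRing A₁ := Algebra.FiniteType.isNoetherianRing ℤ A₁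
  obtain ⟨R₀, T, _, _, _, _, _, _, _, e₀, ρ₀, hρ⟩ := exists_retraction_model e ρ
  exact mem_sectionComponents_of_model e₀ ρ ρ₀ hρ q q' hle hE hq

/-- Section components are stable under generization at points of geometrically reduced fibres. -/
theorem mem_sectionComponents_of_specializes {X Y : Scheme.{u}} [IsAffine X] [IsAffine Y] (f : X ⟶ Y) [Flat f]
    [LocallyOfFinitePresentation f] (σ : Y ⟶ X) (hσ : σ ≫ f = 𝟙 Y) {x x' : X} (h : x' ⤳ x)
    (hE : ∀ z : X, f.base z = f.base x → GeomRedFlat5.E f z) (hx : x ∈ MoreMor.sectionComponents f σ) :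
    x' ∈ MoreMor.sectionComponents f σ := by
  letI : Algebra Γ(Y, ⊤) Γ(X, ⊤) := f.appTop.hom.toAlgebra
  let φ := Spec.map f.appTop
  have hnat : X.isoSpec.hom ≫ φ = f ≫ Y.isoSpec.hom := Scheme.isoSpec_hom_naturality f
  have hsq : IsPullback X.isoSpec.hom f φ Y.isoSpec.hom := IsPullback.of_horiz_isIso ⟨hnat⟩
  have hφ : φ = X.isoSpec.inv ≫ f ≫ Y.isoSpec.hom := by rw [← hnat, Iso.inv_hom_id_assoc]
  haveI : Flat φ := by rw [hφ]; infer_instance
  haveI : LocallyOfFinitePresentation φ := by rw [hφ]; infer_instance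
  haveI : Module.Flat Γ(Y, ⊤) Γ(X, ⊤) :=
    RingHom.flat_algebraMap_iff.1 ((HasRingHomProperty.Spec_iff (P := @Flat)).1 ‹Flat φ›)
  haveI : Algebra.FinitePresentation Γ(Y, ⊤) Γ(X, ⊤) :=
    RingHom.finitePresentation_algebraMap.1
      ((HasRingHomProperty.Spec_iff (P := @LocallyOfFinitePresentation)).1 ‹LocallyOfFinitePresentation φ›)
  let σ' := Y.isoSpec.inv ≫ σ ≫ X.isoSpec.hom
  obtain ⟨r, hr⟩ := Spec.map_surjective σ'
  have hσ' : σ' ≫ φ = 𝟙 _ := by
    show (Y.isoSpec.inv ≫ σ ≫ X.isoSpec.hom) ≫ φ = _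
    rw [Category.assoc, Category.assoc, hnat, reassoc_of% hσ, Iso.inv_hom_id]
  have hr' : f.appTop ≫ r = 𝟙 _ := by
    apply Spec.map_injective
    rw [Spec.map_comp, hr, Spec.map_id]
    exact hσ'
  let ρ : Γ(X, ⊤) →ₐ[Γ(Y, ⊤)] Γ(Y, ⊤) := { r.hom with commutes' := fun a => congr(($hr').hom a) }
  have hSC := Groth.Agent.S1324.result φ σ' hσ' f X.isoSpec.hom Y.isoSpec.hom hsq σ hσ (by simp [σ'])
  rw [hSC] at hx ⊢
  rw [Set.mem_preimage, ← hr] at hx ⊢
  refine mem_sectionComponents_of_specializes_spec ρ _ _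
    ((PrimeSpectrum.le_iff_specializes _ _).2 (h.map X.isoSpec.hom.continuous)) ?_ hx
  intro z hz
  obtain ⟨w, hw₁, hw₂⟩ := Scheme.exists_preimage_of_isPullback hsq z (f.base x) (hz.trans (by
    show φ.base (X.isoSpec.hom.base x) = _
    rw [← Scheme.Hom.comp_apply, hsq.w, Scheme.Hom.comp_apply]))
  exact hw₁ ▸ (GeomRedFlat5.E_iff_of_isPullback hsq w).1 (hE w hw₂)

end Groth.Agent.EtPBC63.RedFib
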