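import Groth.Agent.S1324
import Groth.Agent.GeomRedFlat5.Reduced
import Groth.Agent.GeomRedFlat5.Generic
import Groth.Agent.Proj16.DVRFg

/-!
# Section components are stable under generization where the fibre is geometrically reduced: noetherian case
-/

set_option autoImplicit false

universe u

open CategoryTheory CategoryTheory.Limits AlgebraicGeometry TensorProduct TopologicalSpace

namespace Groth.Agent.EtPBC63.RedFib

theorem isClopen_connectedComponent_noetherian {α : Type*} [TopologicalSpace α] [NoetherianSpace α] (x : α) :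
    IsClopen (connectedComponent x) := by
  refine ⟨isClosed_connectedComponent, isClosed_compl_iff.1 ?_⟩
  have h : (connectedComponent x)ᶜ =
      ⋃ Z ∈ {Z ∈ irreducibleComponents α | Disjoint Z (connectedComponent x)}, Z := by
    ext y
    refine ⟨fun hy => ?_, fun hy => ?_⟩
    · refine Set.mem_iUnion₂.2 ⟨irreducibleComponent y,
        ⟨irreducibleComponent_mem_irreducibleComponents y, Set.disjoint_left.2 fun z hz hzx => hy ?_⟩,
        mem_irreducibleComponent⟩
      rw [connectedComponent_eq hzx]
      exact (isIrreducible_irreducibleComponent.isConnected.isPreconnected.subset_connectedComponent hz)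
        mem_irreducibleComponent
    · obtain ⟨Z, hZ, hyZ⟩ := Set.mem_iUnion₂.1 hy
      exact Set.disjoint_left.1 hZ.2 hyZ
  rw [h]
  exact (NoetherianSpace.finite_irreducibleComponents.subset fun _ hZ => hZ.1).isClosed_biUnion
    fun Z hZ => isClosed_of_mem_irreducibleComponents Z hZ.1

/-- Idempotents of the generic fibre extend when the special fibre is reduced. -/
theorem exists_idempotent_lift {D C : Type u} [CommRing D] [IsDomain D] [CommRing C] [Algebra D C]
    [Module.Flat D C] {π : D} (hπ : π ≠ 0) (hred : _root_.IsReduced (C ⧸ Ideal.span {algebraMap D C π}))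
    (e : Localization.Away (algebraMap D C π)) (he : IsIdempotentElem e) :
    ∃ a : C, IsIdempotentElem a ∧ algebraMap C (Localization.Away (algebraMap D C π)) a = e := by
  let c := algebraMap D C π
  have hreg : ∀ y z : C, c * y = c * z → y = z := by
    intro y z h
    have h1 : IsSMulRegular C π := Module.Flat.isSMulRegular_of_isRegular (isRegular_of_ne_zero hπ)
    exact h1 (by show π • y = π • z; rw [Algebra.smul_def, Algebra.smul_def]; exact h)
  have hinj : Function.Injective (algebraMap C (Localization.Away c)) := by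
    refine IsLocalization.injective (M := Submonoid.powers c) _ ?_
    rintro _ ⟨n, rfl⟩
    refine IsRegular.mem_nonZeroDivisors ?_
    have : IsRegular c := (Commute.isRegular_iff fun _ => Commute.all _ _).2 fun y z h => hreg y z h
    exact this.pow n
  have key : ∀ (n : ℕ) (a : C), e * algebraMap C (Localization.Away c) c ^ n = algebraMap C _ a →
      ∃ b : C, algebraMap C (Localization.Away c) b = e := by
    intro n
    induction n with
    | zero => exact fun a h => ⟨a, by rw [← h, pow_zero, mul_one]⟩
    | succ n ih =>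
      intro a h
      have h2 : a * a = c ^ (n + 1) * a := hinj (by
        rw [map_mul, map_mul, map_pow, ← h]
        calc e * algebraMap C _ c ^ (n + 1) * (e * algebraMap C _ c ^ (n + 1))
            = (e * e) * algebraMap C _ c ^ (n + 1) * algebraMap C _ c ^ (n + 1) := by ring
          _ = _ := by rw [he]; ring)
      have hmem : a ∈ Ideal.span {c} := by
        refine Ideal.Quotient.eq_zero_iff_mem.1 (hred.eq_zero _ ⟨2, ?_⟩)
        rw [pow_two, ← map_mul, Ideal.Quotient.eq_zero_iff_mem, h2]
        exact Ideal.mul_mem_right _ _ (Ideal.pow_mem_of_mem _ (Ideal.mem_span_singleton_self c) _ (Nat.succ_pos n))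
      obtain ⟨a', rfl⟩ := Ideal.mem_span_singleton'.1 hmem
      refine ih a' ?_
      refine ((IsLocalization.map_units (Localization.Away c)
        (⟨c, Submonoid.mem_powers c⟩ : Submonoid.powers c)).mul_left_inj).1 ?_
      rw [mul_assoc, ← pow_succ, h, map_mul]
  obtain ⟨n, a, ha⟩ := IsLocalization.Away.surj c e
  obtain ⟨b, hb⟩ := key n a ha
  exact ⟨b, hinj (by rw [map_mul, hb, he]), hb⟩

/-- A noetherian local domain which is not a field is dominated by a discrete valuation ring. -/
theorem exists_dvr_of_local_domain (A : Type u) [CommRing A] [IsDomain A] [IsNoetherianRing A] [IsLocalRing A]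
    (h : ∃ a ∈ IsLocalRing.maximalIdeal A, a ≠ 0) :
    ∃ (V : Type u) (_ : CommRing V) (_ : IsDomain V) (_ : IsDiscreteValuationRing V) (f : A →+* V),
      IsLocalHom f ∧ Function.Injective f := by
  obtain ⟨a, ha, ha0⟩ := h
  haveI : Algebra.EssFiniteType A (FractionRing A) := Algebra.EssFiniteType.of_isLocalization _ (nonZeroDivisors A)
  obtain ⟨V, hV, hmem, hloc⟩ := Proj16.exists_dvr_dominating A (FractionRing A)
    ⟨a, ha, fun h0 => ha0 (IsFractionRing.injective A (FractionRing A) (h0.trans (map_zero _).symm))⟩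
  exact ⟨V, inferInstance, inferInstance, hV, (algebraMap A (FractionRing A)).codRestrict V.toSubring hmem, hloc,
    fun y z h1 => IsFractionRing.injective A (FractionRing A) (congrArg Subtype.val h1)⟩

theorem comp_spec_map {A B C : Type u} [CommRing A] [CommRing B] [CommRing C] (f : A →+* B) (g : B →+* C) :
    Spec.map (CommRingCat.ofHom g) ≫ Spec.map (CommRingCat.ofHom f) = Spec.map (CommRingCat.ofHom (g.comp f)) := by
  rw [← Spec.map_comp]; rfl

open IsLocalRing in
/-- Section components are stable under generization at points of geometrically reduced fibres. -/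
theorem mem_sectionComponents_of_specializes_noetherian {R B : Type u} [CommRing R] [CommRing B] [Algebra R B]
    [IsNoetherianRing R] [Algebra.FiniteType R B] [Module.Flat R B] (ρ : B →ₐ[R] R)
    (q q' : PrimeSpectrum B) (hle : q'.asIdeal ≤ q.asIdeal)
    (hE : ∀ z : Spec (CommRingCat.of B),
      (Spec.map (CommRingCat.ofHom (algebraMap R B))).base z =
        (Spec.map (CommRingCat.ofHom (algebraMap R B))).base q →
      GeomRedFlat5.E (Spec.map (CommRingCat.ofHom (algebraMap R B))) z)
    (hq : q ∈ MoreMor.sectionComponents (Spec.map (CommRingCat.ofHom (algebraMap R B)))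
      (Spec.map (CommRingCat.ofHom ρ.toRingHom))) :
    q' ∈ MoreMor.sectionComponents (Spec.map (CommRingCat.ofHom (algebraMap R B)))
      (Spec.map (CommRingCat.ofHom ρ.toRingHom)) := by
  classical
  haveI : IsNoetherianRing B := Algebra.FiniteType.isNoetherianRing R B
  rcases eq_or_ne q' q with rfl | hne
  · exact hq
  -- a discrete valuation ring through the two points
  haveI := q'.isPrime
  let A' := B ⧸ q'.asIdeal
  let 𝔮 : Ideal A' := q.asIdeal.map (Ideal.Quotient.mk q'.asIdeal)
  haveI := q.isPrime
  haveI : 𝔮.IsPrime := Ideal.map_isPrime_of_surjective Ideal.Quotient.mk_surjective (by rwa [Ideal.mk_ker])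
  let L := Localization.AtPrime 𝔮
  haveI : IsDomain L := IsLocalization.isDomain_localization 𝔮.primeCompl_le_nonZeroDivisors
  haveI : IsNoetherianRing L := IsLocalization.isNoetherianRing 𝔮.primeCompl _ inferInstance
  obtain ⟨x, hx, hx'⟩ : ∃ x ∈ q.asIdeal, x ∉ q'.asIdeal := by
    by_contra h
    push_neg at h
    exact hne (PrimeSpectrum.ext (le_antisymm hle h))
  have hBL : Function.Injective (algebraMap A' L) :=
    IsLocalization.injective L 𝔮.primeCompl_le_nonZeroDivisors
  obtain ⟨V, _, _, _, κL, hκloc, hκ⟩ := exists_dvr_of_local_domain L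
    ⟨algebraMap A' L (Ideal.Quotient.mk _ x), (IsLocalization.AtPrime.to_map_mem_maximal_iff L 𝔮 _).2
        (Ideal.mem_map_of_mem _ hx), fun h => hx' (Ideal.Quotient.eq_zero_iff_mem.1 (hBL
          (h.trans (map_zero _).symm)))⟩
  haveI := hκloc
  let ψ₀ : B →+* V := κL.comp ((algebraMap A' L).comp (Ideal.Quotient.mk q'.asIdeal))
  have hψm : ∀ b, ψ₀ b ∈ maximalIdeal V ↔ b ∈ q.asIdeal := by
    intro b
    show κL (algebraMap A' L (Ideal.Quotient.mk _ b)) ∈ maximalIdeal V ↔ _
    rw [IsLocalRing.mem_maximalIdeal, mem_nonunits_iff, isUnit_map_iff κL, ← mem_nonunits_iff,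
      ← IsLocalRing.mem_maximalIdeal, IsLocalization.AtPrime.to_map_mem_maximal_iff L 𝔮,
      Ideal.mem_quotient_iff_mem hle]
  have hψ0 : ∀ b, ψ₀ b = 0 ↔ b ∈ q'.asIdeal := by
    intro b
    rw [← Ideal.Quotient.eq_zero_iff_mem]
    show κL (algebraMap A' L _) = 0 ↔ _
    rw [map_eq_zero_iff κL hκ, map_eq_zero_iff (algebraMap A' L) hBL]
    exact Iff.rfl
  letI : Algebra R V := (ψ₀.comp (algebraMap R B)).toAlgebra
  let ψ : B →ₐ[R] V := { ψ₀ with commutes' := fun _ => rfl }
  let C := V ⊗[R] B
  let iB : B →+* C := (Algebra.TensorProduct.includeRight : B →ₐ[R] C).toRingHom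
  let f := Spec.map (CommRingCat.ofHom (algebraMap R B))
  let σ := Spec.map (CommRingCat.ofHom ρ.toRingHom)
  let fD := Spec.map (CommRingCat.ofHom (algebraMap V C))
  let p := Spec.map (CommRingCat.ofHom iB)
  let g := Spec.map (CommRingCat.ofHom (algebraMap R V))
  have hsq : IsPullback p fD f g := GeomRedFlat5.isPullback_tensor R V B
  let sD : C →ₐ[R] V := Algebra.TensorProduct.lift (AlgHom.id R V) ((Algebra.ofId R V).comp ρ)
    fun _ _ => Commute.all _ _
  let tD : C →ₐ[R] V := Algebra.TensorProduct.lift (AlgHom.id R V) ψ fun _ _ => Commute.all _ _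
  have hsD : ∀ v, sD (algebraMap V C v) = v := fun v => by
    show sD (v ⊗ₜ 1) = v
    rw [Algebra.TensorProduct.lift_tmul, map_one, mul_one]; rfl
  have htD : ∀ v, tD (algebraMap V C v) = v := fun v => by
    show tD (v ⊗ₜ 1) = v
    rw [Algebra.TensorProduct.lift_tmul, map_one, mul_one]; rfl
  let σD := Spec.map (CommRingCat.ofHom sD.toRingHom)
  let τD := Spec.map (CommRingCat.ofHom tD.toRingHom)
  have hσ : σ ≫ f = 𝟙 _ := by
    rw [comp_spec_map, show ρ.toRingHom.comp (algebraMap R B) = RingHom.id R from RingHom.ext ρ.commutes,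
      CommRingCat.ofHom_id, Spec.map_id]
  have hσD : σD ≫ fD = 𝟙 _ := by
    rw [comp_spec_map, show sD.toRingHom.comp (algebraMap V C) = RingHom.id V from RingHom.ext hsD,
      CommRingCat.ofHom_id, Spec.map_id]
  have hτD : τD ≫ fD = 𝟙 _ := by
    rw [comp_spec_map, show tD.toRingHom.comp (algebraMap V C) = RingHom.id V from RingHom.ext htD,
      CommRingCat.ofHom_id, Spec.map_id]
  have hσg : σD ≫ p = g ≫ σ := by
    rw [comp_spec_map, comp_spec_map]
    refine congrArg (fun k => Spec.map (CommRingCat.ofHom k)) (RingHom.ext fun b => ?_)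
    show sD (1 ⊗ₜ b) = _
    rw [Algebra.TensorProduct.lift_tmul, map_one, one_mul]
    rfl
  have hτp : τD ≫ p = Spec.map (CommRingCat.ofHom ψ₀) := by
    rw [comp_spec_map]
    refine congrArg (fun k => Spec.map (CommRingCat.ofHom k)) (RingHom.ext fun b => ?_)
    show tD (1 ⊗ₜ b) = _
    rw [Algebra.TensorProduct.lift_tmul, map_one, one_mul]
    rfl
  have hSC := Groth.Agent.S1324.result f σ hσ fD p g hsq σD hσD hσg
  let m : Spec (CommRingCat.of V) := (⟨maximalIdeal V, inferInstance⟩ : PrimeSpectrum V)
  let η : Spec (CommRingCat.of V) := (⟨⊥, Ideal.isPrime_bot⟩ : PrimeSpectrum V)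
  have hpm : p.base (τD.base m) = q := by
    rw [← Scheme.Hom.comp_apply, hτp]
    exact PrimeSpectrum.ext (Ideal.ext hψm)
  have hpη : p.base (τD.base η) = q' := by
    rw [← Scheme.Hom.comp_apply, hτp]
    exact PrimeSpectrum.ext (Ideal.ext fun b => (Submodule.mem_bot V).trans (hψ0 b))
  suffices h : τD.base η ∈ MoreMor.sectionComponents fD σD by
    rw [hSC] at h
    exact hpη ▸ h
  have hfτ : ∀ y, fD.base (τD.base y) = y := fun y => by rw [← Scheme.Hom.comp_apply, hτD]; rfl
  have hfσ : ∀ y, fD.base (σD.base y) = y := fun y => by rw [← Scheme.Hom.comp_apply, hσD]; rfl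
  have hm : τD.base m ∈ connectedComponentIn (fD ⁻¹' {(m : Spec (CommRingCat.of V))}) (σD.base m) := by
    have h : τD.base m ∈ MoreMor.sectionComponents fD σD := by
      rw [hSC]
      rw [Set.mem_preimage, hpm]; exact hq
    change τD.base m ∈ connectedComponentIn (fD ⁻¹' {fD.base (τD.base m)}) (σD.base (fD.base (τD.base m))) at h
    rwa [hfτ] at h
  obtain ⟨π, hπ⟩ := IsDiscreteValuationRing.exists_irreducible V
  let c := algebraMap V C π
  -- the special fibre is reduced
  haveI : Module.Flat V C := inferInstance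
  have hred : _root_.IsReduced (C ⧸ Ideal.span {c}) := by
    letI : Field (V ⧸ maximalIdeal V) := Ideal.Quotient.field _
    let k := Spec.map (CommRingCat.ofHom (algebraMap V (V ⧸ maximalIdeal V)))
    haveI : IsReduced (pullback fD k) := by
      haveI : ∀ z : ↥(pullback fD k), _root_.IsReduced ((pullback fD k).presheaf.stalk z) := by
        intro z
        refine GeomRedFlat5.isReduced_pullback_field ((GeomRedFlat5.E_iff_of_isPullback hsq _).2 (hE _ ?_)) k z rfl
        have h1 : fD.base ((pullback.fst fD k).base z) = m := by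
          rw [← Scheme.Hom.comp_apply, pullback.condition, Scheme.Hom.comp_apply]
          refine PrimeSpectrum.ext ?_
          show Ideal.comap (algebraMap V (V ⧸ maximalIdeal V)) _ = maximalIdeal V
          rw [((Ideal.eq_bot_or_top _).resolve_right
            ((pullback.snd fD k).base z : PrimeSpectrum (V ⧸ maximalIdeal V)).isPrime.ne_top)]
          exact Ideal.mk_ker
        show f.base (p.base ((pullback.fst fD k).base z)) = f.base q
        rw [← hpm, ← Scheme.Hom.comp_apply, ← Scheme.Hom.comp_apply p f, hsq.w, Scheme.Hom.comp_apply,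
          Scheme.Hom.comp_apply, h1, hfτ]
      exact isReduced_of_isReduced_stalk _
    haveI : IsReduced (Spec (CommRingCat.of (C ⊗[V] (V ⧸ maximalIdeal V)))) :=
      isReduced_of_isOpenImmersion (pullbackSpecIso V C (V ⧸ maximalIdeal V)).inv
    haveI : _root_.IsReduced (C ⊗[V] (V ⧸ maximalIdeal V)) :=
      (affine_isReduced_iff (CommRingCat.of (C ⊗[V] (V ⧸ maximalIdeal V)))).1 ‹_›
    have h2 : (maximalIdeal V).map (algebraMap V C) = Ideal.span {c} := by
      rw [hπ.maximalIdeal_eq, Ideal.map_span, Set.image_singleton]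
    rw [← h2]
    exact isReduced_of_injective _ (Algebra.TensorProduct.quotIdealMapEquivTensorQuot C (maximalIdeal V)).injective
  -- the generic fibre
  haveI : IsNoetherianRing (Localization.Away c) :=
    haveI : IsNoetherianRing C := Algebra.FiniteType.isNoetherianRing V C
    IsLocalization.isNoetherianRing (Submonoid.powers c) _ inferInstance
  let i : PrimeSpectrum (Localization.Away c) → Spec (CommRingCat.of C) :=
    PrimeSpectrum.comap (algebraMap C (Localization.Away c))
  have hi : Continuous i := PrimeSpectrum.continuous_comap _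
  have hrange : ∀ y : Spec (CommRingCat.of C), fD.base y = η ↔ y ∈ Set.range i := by
    intro y
    have h0 : Set.range i = (PrimeSpectrum.basicOpen c : Set (PrimeSpectrum C)) :=
      PrimeSpectrum.localization_away_comap_range _ c
    rw [h0]
    show fD.base y = η ↔ c ∉ PrimeSpectrum.asIdeal y
    refine ⟨fun h hc => hπ.ne_zero ?_, fun hc => ?_⟩
    · have : π ∈ PrimeSpectrum.asIdeal (fD.base y) := hc
      rw [h] at this
      exact (Submodule.mem_bot V).1 this
    · refine PrimeSpectrum.ext ?_
      by_contra hne'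
      have h1 : PrimeSpectrum.asIdeal (fD.base y) = maximalIdeal V :=
        IsLocalRing.eq_maximalIdeal ((PrimeSpectrum.isPrime (fD.base y)).isMaximal hne')
      exact hc (show π ∈ PrimeSpectrum.asIdeal (fD.base y) from h1 ▸
        (IsLocalRing.mem_maximalIdeal π).2 hπ.not_isUnit)
  obtain ⟨t, ht⟩ := (hrange _).1 (hfτ η)
  obtain ⟨s, hs⟩ := (hrange _).1 (hfσ η)
  show τD.base η ∈ connectedComponentIn (fD ⁻¹' {fD.base (τD.base η)}) (σD.base (fD.base (τD.base η)))
  rw [hfτ]
  suffices hts : t ∈ connectedComponent s by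
    have h1 : i '' connectedComponent s ⊆ connectedComponentIn (fD ⁻¹' {(η : Spec (CommRingCat.of V))}) (i s) :=
      (isPreconnected_connectedComponent.image i hi.continuousOn).subset_connectedComponentIn
        ⟨s, mem_connectedComponent, rfl⟩ (by rintro _ ⟨z, -, rfl⟩; exact (hrange _).2 ⟨z, rfl⟩)
    rw [← hs, ← ht]
    exact h1 ⟨t, hts, rfl⟩
  obtain ⟨e, he, hG⟩ := PrimeSpectrum.exists_idempotent_basicOpen_eq_of_isClopen
    (isClopen_connectedComponent_noetherian s)
  obtain ⟨a, ha, hae⟩ := exists_idempotent_lift hπ.ne_zero hred e he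
  let U : Set (Spec (CommRingCat.of C)) := (PrimeSpectrum.basicOpen a : Set (PrimeSpectrum C))
  have hU : IsClopen U := PrimeSpectrum.isClopen_basicOpen_of_mul_add a (1 - a)
    (by rw [mul_sub, mul_one, ha, sub_self]) (by ring)
  have hUi : ∀ z, i z ∈ U ↔ z ∈ connectedComponent s := by
    intro z
    rw [hG]
    show a ∉ (algebraMap C (Localization.Away c) ⁻¹' z.asIdeal) ↔ e ∉ z.asIdeal
    rw [← hae]; rfl
  have hspec : ∀ (k : Spec (CommRingCat.of V) ⟶ Spec (CommRingCat.of C)), k.base η ⤳ k.base m := fun k =>
    ((PrimeSpectrum.le_iff_specializes (η : PrimeSpectrum V) (m : PrimeSpectrum V)).1 bot_le).map k.continuous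
  have h1 : σD.base m ∈ U := (hspec σD).mem_closed hU.1 (hs ▸ (hUi s).2 mem_connectedComponent)
  have h2 : τD.base m ∈ U :=
    isPreconnected_connectedComponentIn.subset_isClopen hU
      ⟨_, mem_connectedComponentIn (show fD.base (σD.base m) ∈ ({(m : Spec (CommRingCat.of V))} : Set _) from hfσ m), h1⟩ hm
  have h3 : τD.base η ∈ U := (hspec τD).mem_open hU.2 h2
  exact (hUi t).1 (ht ▸ h3)

end Groth.Agent.EtPBC63.RedFib
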