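import Groth.Agent.EtPBC63.RedFib.Agree

/-!
# A section of an inverse image restricted along a section comes from the base
-/

universe u

open CategoryTheory CategoryTheory.Limits AlgebraicGeometry Opposite

namespace Groth.Agent.EtPBC63.RedFib

open EtFound Gabber FlatConn

set_option backward.isDefEq.respectTransparency.types false

variable {Y T : Scheme.{u}} (e : Y ⟶ T) (F : EtCoh.Ab T) {Ũ : T.Etale} {W : Y.Etale}
  (a : W ⟶ (EtCoh.bc e).obj Ũ) (j : Ũ.left ⟶ W.left) (hj : j ≫ a.left ≫ pullback.fst Ũ.hom e = 𝟙 _)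

include hj in
theorem j_hom : j ≫ W.hom ≫ e = Ũ.hom := by
  have h1 : (a.left ≫ pullback.fst Ũ.hom e) ≫ Ũ.hom = W.hom ≫ e := by
    refine (Category.assoc _ _ _).trans ((congrArg (a.left ≫ ·) pullback.condition).trans ?_)
    exact (Category.assoc _ _ _).symm.trans (congrArg (· ≫ e) (MorphismProperty.Over.w a))
  calc j ≫ W.hom ≫ e = j ≫ (a.left ≫ pullback.fst Ũ.hom e) ≫ Ũ.hom := congrArg (j ≫ ·) h1.symm
    _ = (j ≫ a.left ≫ pullback.fst Ũ.hom e) ≫ Ũ.hom := (Category.assoc _ _ _).symm
    _ = Ũ.hom := by rw [hj, Category.id_comp]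

include hj in
theorem sec_cond {U : T.Etale} (r : U ⟶ Ũ) : U.hom = (r.left ≫ j ≫ W.hom) ≫ e :=
  (MorphismProperty.Over.w r).symm.trans ((congrArg (r.left ≫ ·) (j_hom e a j hj).symm).trans
    (by simp only [Category.assoc]))

/-- The graph of `j` over an étale `U → Ũ`. -/
noncomputable def graph {U : T.Etale} (r : U ⟶ Ũ) : U.left ⟶ pullback U.hom e :=
  pullback.lift (𝟙 _) (r.left ≫ j ≫ W.hom) ((Category.id_comp _).trans (sec_cond e a j hj r))

theorem lift_cond {U : T.Etale} (r : U ⟶ Ũ) :
    (r.left ≫ j) ≫ a.left = graph e a j hj r ≫ ((EtCoh.bc e).map r).left := by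
  apply pullback.hom_ext
  · refine Eq.trans ?_ ((Category.assoc _ _ _).trans (congrArg (graph e a j hj r ≫ ·) (pullback.lift_fst _ _ _))).symm
    refine Eq.trans ?_ ((Category.assoc _ _ _).symm.trans ((congrArg (· ≫ r.left)
      (pullback.lift_fst _ _ _)).trans (Category.id_comp _))).symm
    exact (Category.assoc _ _ _).trans ((Category.assoc _ _ _).trans
      ((congrArg (r.left ≫ ·) hj).trans (Category.comp_id _)))
  · refine Eq.trans ?_ ((Category.assoc _ _ _).trans (congrArg (graph e a j hj r ≫ ·) (pullback.lift_snd _ _ _))).symm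
    refine Eq.trans ?_ ((Category.assoc _ _ _).symm.trans ((congrArg (· ≫ 𝟙 Y) (pullback.lift_snd _ _ _)).trans
      (Category.comp_id _))).symm
    exact (Category.assoc _ _ _).trans ((Category.assoc _ _ _).trans
      (congrArg (fun m => r.left ≫ j ≫ m) (MorphismProperty.Over.w a)))

/-- The lift of `j` to `obj e a r`. -/
noncomputable def sec {U : T.Etale} (r : U ⟶ Ũ) : U.left ⟶ (obj e a r).left :=
  pullback.lift (r.left ≫ j) (graph e a j hj r) (lift_cond e a j hj r)

theorem sec_toW {U : T.Etale} (r : U ⟶ Ũ) : sec e a j hj r ≫ (toW e a r).left = r.left ≫ j :=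
  pullback.lift_fst _ _ _

theorem fst_sec {U : T.Etale} (r : U ⟶ Ũ) (v : U.left) :
    (pullback.fst U.hom e).base ((toU e a r).left.base ((sec e a j hj r).base v)) = v := by
  have h : sec e a j hj r ≫ (toU e a r).left = graph e a j hj r := pullback.lift_snd _ _ _
  have h2 : (sec e a j hj r ≫ (toU e a r).left) ≫ pullback.fst U.hom e = 𝟙 _ :=
    (congrArg (· ≫ _) h).trans (pullback.lift_fst _ _ _)
  exact ((Scheme.Hom.comp_apply _ _ _).trans (congrArg _ (Scheme.Hom.comp_apply _ _ _))).symm.trans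
    (congrArg (fun m : U.left ⟶ U.left => m.base v) h2)

/-- Functoriality of `obj e a r`. -/
noncomputable def objMap {U U' : T.Etale} (m : U' ⟶ U) (r : U ⟶ Ũ) : obj e a (m ≫ r) ⟶ obj e a r :=
  MorphismProperty.Over.homMk
    (pullback.lift (pullback.fst a.left ((EtCoh.bc e).map (m ≫ r)).left)
      (pullback.snd a.left ((EtCoh.bc e).map (m ≫ r)).left ≫ ((EtCoh.bc e).map m).left)
      (pullback.condition.trans ((congrArg (pullback.snd a.left ((EtCoh.bc e).map (m ≫ r)).left ≫ ·)
        (congr(($((EtCoh.bc e).map_comp m r)).left))).trans (Category.assoc _ _ _).symm)))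
    ((Category.assoc _ _ _).symm.trans (congrArg (· ≫ W.hom) (pullback.lift_fst _ _ _))) trivial

theorem objMap_toW {U U' : T.Etale} (m : U' ⟶ U) (r : U ⟶ Ũ) : objMap e a m r ≫ toW e a r = toW e a (m ≫ r) :=
  MorphismProperty.Over.Hom.ext (pullback.lift_fst _ _ _)

theorem objMap_toU {U U' : T.Etale} (m : U' ⟶ U) (r : U ⟶ Ũ) :
    objMap e a m r ≫ toU e a r = toU e a (m ≫ r) ≫ (EtCoh.bc e).map m :=
  MorphismProperty.Over.Hom.ext (pullback.lift_snd _ _ _)

theorem map_diff (τ : ((EtCoh.pull e).obj F).obj.obj (op W)) {U U' : T.Etale} (m : U' ⟶ U) (r : U ⟶ Ũ)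
    (σ : F.obj.obj (op U)) :
    ((EtCoh.pull e).obj F).obj.map (objMap e a m r).op (diff e F a τ r σ) = diff e F a τ (m ≫ r) (F.obj.map m.op σ) := by
  unfold diff
  rw [map_sub, pb_map, ← Functor.map_comp_apply, ← Functor.map_comp_apply, ← Functor.map_comp_apply, ← op_comp,
    ← op_comp, ← op_comp, objMap_toW, objMap_toU]

theorem sec_objMap {U U' : T.Etale} (m : U' ⟶ U) (r : U ⟶ Ũ) :
    sec e a j hj (m ≫ r) ≫ (objMap e a m r).left = m.left ≫ sec e a j hj r := by
  apply pullback.hom_ext
  · refine (Category.assoc _ _ _).trans ((congrArg (_ ≫ ·) (pullback.lift_fst _ _ _)).trans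
      ((pullback.lift_fst _ _ _).trans ?_))
    refine Eq.trans ?_ ((Category.assoc _ _ _).trans (congrArg (m.left ≫ ·) (pullback.lift_fst _ _ _))).symm
    exact Category.assoc _ _ _
  · refine (Category.assoc _ _ _).trans ((congrArg (_ ≫ ·) (pullback.lift_snd _ _ _)).trans ?_)
    refine Eq.trans ?_ ((Category.assoc _ _ _).trans (congrArg (m.left ≫ ·) (pullback.lift_snd _ _ _))).symm
    refine ((Category.assoc _ _ _).symm.trans (congrArg (· ≫ _) (pullback.lift_snd _ _ _))).trans ?_
    apply pullback.hom_ext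
    · refine (Category.assoc _ _ _).trans ((congrArg (_ ≫ ·) (pullback.lift_fst _ _ _)).trans ?_)
      refine ((Category.assoc _ _ _).symm.trans ((congrArg (· ≫ m.left) (pullback.lift_fst _ _ _)).trans
        (Category.id_comp _))).trans ?_
      exact ((Category.assoc _ _ _).trans ((congrArg (m.left ≫ ·) (pullback.lift_fst _ _ _)).trans
        (Category.comp_id _))).symm
    · refine (Category.assoc _ _ _).trans ((congrArg (_ ≫ ·) (pullback.lift_snd _ _ _)).trans ?_)
      refine ((Category.assoc _ _ _).symm.trans ((congrArg (· ≫ 𝟙 Y) (pullback.lift_snd _ _ _)).trans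
        (Category.comp_id _))).trans ?_
      refine Eq.trans ?_ ((Category.assoc _ _ _).trans (congrArg (m.left ≫ ·) (pullback.lift_snd _ _ _))).symm
      exact Category.assoc _ _ _

include hj in
/-- A section of the inverse image agrees along `j` with a section from the base. -/
theorem exists_section_along (τ : ((EtCoh.pull e).obj F).obj.obj (op W)) :
    ∃ s : F.obj.obj (op Ũ), ∀ x : Ũ.left, j.base x ∉ germSupp ((EtCoh.pull e).obj F) W
      (τ - ((EtCoh.pull e).obj F).obj.map a.op (pb e F Ũ s)) := by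
  classical
  have hloc : ∀ x : Ũ.left, ∃ (U : T.Etale) (r : U ⟶ Ũ) (σ : F.obj.obj (op U)), (∃ v, r.left.base v = x) ∧
      ∀ v, (sec e a j hj r).base v ∉ germSupp ((EtCoh.pull e).obj F) (obj e a r) (diff e F a τ r σ) := by
    intro x
    obtain ⟨K, _, _, η, ux, rfl⟩ := exists_algClosed_point Ũ x
    let l : Spec (CommRingCat.of K) ⟶ W.left := (ux.left : Spec (CommRingCat.of K) ⟶ Ũ.left) ≫ j
    let ζ := l ≫ W.hom
    let z : (Scheme.pointSmallEtale ζ).fiber.obj W := CategoryTheory.Over.homMk l rfl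
    obtain ⟨U, r, σ, u', hu, hz⟩ := exists_agree e F a τ z
    let uu : Spec (CommRingCat.of K) ⟶ U.left := u'.left
    have h1 : uu ≫ r.left = ux.left := by
      refine (congr(($hu).left)).trans ?_
      show (l ≫ a.left) ≫ pullback.fst Ũ.hom e = _
      exact (Category.assoc _ _ _).trans ((Category.assoc _ _ _).trans ((congrArg (_ ≫ ·) hj).trans (Category.comp_id _)))
    have h2 : uu ≫ sec e a j hj r = (pt e a r z u' hu).left := by
      apply pullback.hom_ext
      · refine ((Category.assoc _ _ _).trans ((congrArg (uu ≫ ·) (pullback.lift_fst _ _ _)).trans ?_)).trans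
          (pullback.lift_fst _ _ _).symm
        exact (Category.assoc _ _ _).symm.trans (congrArg (· ≫ j) h1)
      · refine ((Category.assoc _ _ _).trans ((congrArg (uu ≫ ·) (pullback.lift_snd _ _ _)).trans ?_)).trans
          (pullback.lift_snd _ _ _).symm
        apply pullback.hom_ext
        · refine ((Category.assoc _ _ _).trans ((congrArg (uu ≫ ·) (pullback.lift_fst _ _ _)).trans
            (Category.comp_id _))).trans ?_
          exact congr(($(Equiv.apply_symm_apply (bcFiberEquiv e ζ U) u')).left).symm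
        · refine ((Category.assoc _ _ _).trans (congrArg (uu ≫ ·) (pullback.lift_snd _ _ _))).trans ?_
          refine ((Category.assoc _ _ _).symm.trans ((congrArg (· ≫ j ≫ W.hom) h1).trans
            (Category.assoc _ _ _).symm)).trans ?_
          exact (CategoryTheory.Over.w ((bcFiberEquiv e ζ U).symm u')).symm
    let O : U.left.Opens := ⟨(sec e a j hj r).base ⁻¹' (germSupp ((EtCoh.pull e).obj F) (obj e a r) (diff e F a τ r σ))ᶜ,
      (isClosed_germSupp _ _ _).isOpen_compl.preimage (sec e a j hj r).continuous⟩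
    have hmem : ptOf u' ∈ O := by
      show (sec e a j hj r).base (uu.base default) ∉ _
      rw [← Scheme.Hom.comp_apply, h2]
      exact hz
    refine ⟨restrictEtale U O, restrictEtaleHom U O ≫ r, F.obj.map (restrictEtaleHom U O).op σ,
      ⟨⟨ptOf u', hmem⟩, ?_⟩, fun v hv => ?_⟩
    · show r.left.base (uu.base default) = _
      rw [← Scheme.Hom.comp_apply, h1]
      rfl
    · rw [← map_diff, germSupp_map, ← Scheme.Hom.comp_apply, sec_objMap, Scheme.Hom.comp_apply] at hv
      exact v.2 hv
  choose U r σ hr hσ using hloc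
  have hsheaf := isSheafFor_of_covers F U r fun x => ⟨x, hr x⟩
  obtain ⟨s, hs, -⟩ := (Presieve.isSheafFor_arrows_iff _ _).1 hsheaf σ (by
    intro x y V a₁ a₂ hab
    show F.obj.map a₁.op (σ x) = F.obj.map a₂.op (σ y)
    rw [← sub_eq_zero]
    refine eq_zero_of_germSupp _ (Set.eq_empty_of_forall_notMem fun v hv => ?_)
    let w := (sec e a j hj (a₁ ≫ r x)).base v
    have hx' : ∀ (z : Ũ.left) (b : V ⟶ U z) (hb : b ≫ r z = a₁ ≫ r x),
        w ∉ germSupp _ _ (diff e F a τ (a₁ ≫ r x) (F.obj.map b.op (σ z))) := by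
      intro z b hb
      have h3 : (sec e a j hj (b ≫ r z)).base v ∉ germSupp _ _ (diff e F a τ (b ≫ r z) (F.obj.map b.op (σ z))) := by
        rw [← map_diff, germSupp_map, ← Scheme.Hom.comp_apply, sec_objMap, Scheme.Hom.comp_apply]
        exact hσ z _
      simp only [w]
      generalize hc : b ≫ r z = c at h3
      rw [hb] at hc
      subst hc
      exact h3
    have e2 : diff e F a τ (a₁ ≫ r x) (F.obj.map a₂.op (σ y)) - diff e F a τ (a₁ ≫ r x) (F.obj.map a₁.op (σ x)) =
        ((EtCoh.pull e).obj F).obj.map (toU e a (a₁ ≫ r x)).op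
          (pb e F V (F.obj.map a₁.op (σ x) - F.obj.map a₂.op (σ y))) := by
      unfold diff
      rw [pb_sub, map_sub]
      abel
    have h4 : w ∈ germSupp _ _ (diff e F a τ (a₁ ≫ r x) (F.obj.map a₂.op (σ y)) -
        diff e F a τ (a₁ ≫ r x) (F.obj.map a₁.op (σ x))) := by
      rw [e2, germSupp_map, germSupp_pb, fst_sec]
      exact hv
    rcases germSupp_sub_subset _ 0 _ h4 with h5 | h5
    · exact hx' y a₂ hab.symm (by rwa [sub_zero] at h5)
    · exact hx' x a₁ rfl (germSupp_neg _ (by rwa [zero_sub] at h5)))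
  refine ⟨s, fun x hx => ?_⟩
  obtain ⟨v, hv⟩ := hr x
  refine hσ x v ?_
  rw [← show F.obj.map (r x).op s = σ x from hs x, diff_map, germSupp_map, ← Scheme.Hom.comp_apply, sec_toW,
    Scheme.Hom.comp_apply, hv]
  exact hx

end Groth.Agent.EtPBC63.RedFib
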